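import Cfsg.Agent.Lib.PSLnGraph.Classify

/-!
Splitting of the classes of involutory graph automorphisms of `PSL_n(q)`.
-/

set_option autoImplicit false
set_option linter.unusedSectionVars false

namespace CfsgLib.PSLnGraph

open Matrix CfsgLib.PSLn
open scoped MatrixGroups

variable {F : Type*} [Field F] [Fintype F] {n : ℕ}

local notation "PSL" => Matrix.ProjectiveSpecialLinearGroup (Fin n) F

theorem det_sq {k g : GL (Fin n) F} {c : Fˣ} (h : k.1 * g.1 * k.1ᵀ = (c : F) • g.1) :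
    k.1.det * k.1.det = (c : F) ^ n := by
  have e := congrArg Matrix.det h
  rw [det_mul, det_mul, det_transpose, det_smul, Fintype.card_fin] at e
  exact mul_right_cancel₀ (det_gl_ne g) (by linear_combination e)

theorem card_units_eq : Nat.card Fˣ = Fintype.card F - 1 := by
  rw [Nat.card_units, Nat.card_eq_fintype_card]

/-- The classes split as much as possible for `n` odd or `q` even. -/
theorem split_full (hn : 2 ≤ n) (g : GL (Fin n) F) (h : Odd n ∨ (2 : F) = 0) :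
    Cfsg.splitClassCount (Cfsg.inndiagPSL n F) (Cfsg.Inn PSL) (γ g) = Nat.gcd n (Fintype.card F - 1) := by
  rw [splitCount hn g ⊥ ?_ ?_, Subgroup.index_bot, card_units_eq]
  · rintro k ⟨c, hc⟩
    refine Subgroup.mem_sup_left ?_
    have e := det_sq hc
    have hd : GeneralLinearGroup.det k * GeneralLinearGroup.det k = c ^ n :=
      Units.ext (by rw [Units.val_mul, Units.val_pow_eq_pow_val, GeneralLinearGroup.val_det_apply]; exact e)
    rcases h with ⟨j, rfl⟩ | h2
    · refine ⟨GeneralLinearGroup.det k / c ^ j, ?_⟩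
      show (GeneralLinearGroup.det k / c ^ j) ^ (2 * j + 1) = GeneralLinearGroup.det k
      rw [div_pow, div_eq_iff_eq_mul, pow_succ', pow_mul, ← pow_mul c, mul_comm j (2 * j + 1), pow_mul c (2 * j + 1),
        ← hd, pow_two]
    · obtain ⟨t, ht⟩ := sq_surj h2 (c : F)
      have ht0 : t ≠ 0 := by rintro rfl; exact c.ne_zero (by rw [ht, mul_zero])
      refine ⟨Units.mk0 t ht0, Units.ext ?_⟩
      show t ^ n = k.1.det
      exact sq_inj h2 (by rw [e, ht, mul_pow])
  · intro u hu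
    refine ⟨1, ⟨1, by simp⟩, ?_⟩
    rw [map_one, Subgroup.mem_bot.mp hu]

/-- The classes for an alternating matrix. -/
theorem split_alt {m : ℕ} (hn : n = 2 * m) (hm : 1 ≤ m) (g : GL (Fin n) F) (hg : g.1ᵀ = -g.1)
    (hd : ∀ i, g.1 i i = 0) :
    Cfsg.splitClassCount (Cfsg.inndiagPSL n F) (Cfsg.Inn PSL) (γ g) = Nat.gcd m (Fintype.card F - 1) := by
  classical
  subst hn
  obtain ⟨k', hk', P, P', s, hP, hP', hs⟩ := exists_symp hg hd (det_gl_ne g)
  rw [Fintype.card_fin] at hk'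
  obtain rfl : k' = m := by omega
  set J := Matrix.J (Fin k') F
  have hT : P'ᵀ * Pᵀ = 1 := by rw [← transpose_mul, hP, transpose_one]
  have hT' : Pᵀ * P'ᵀ = 1 := by rw [← transpose_mul, hP', transpose_one]
  let D : F → Matrix (Fin k' ⊕ Fin k') (Fin k' ⊕ Fin k') F := fun c => fromBlocks (c • (1 : Matrix (Fin k') (Fin k') F)) 0 0 1
  have hD : ∀ c : F, D c * J * (D c)ᵀ = c • J := fun c => by
    simp only [D, J, Matrix.J, fromBlocks_transpose, fromBlocks_multiply, fromBlocks_smul]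
    simp
  have hDd : ∀ c : F, (D c).det = c ^ k' := fun c => by
    simp [D, det_fromBlocks_zero₂₁, det_smul]
  rw [splitCount (by omega) g (powMonoidHom k' : Fˣ →* Fˣ).range ?_ ?_, IsCyclic.index_powMonoidHom_range,
    card_units_eq]
  · rw [Nat.gcd_comm (Fintype.card F - 1) k', ← Nat.gcd_assoc, Nat.gcd_eq_right (dvd_mul_left k' 2)]
  · rintro k ⟨c, hc⟩
    refine Subgroup.mem_sup_right ⟨c, Units.ext ?_⟩
    show (c : F) ^ k' = k.1.det
    set k₁ := Pᵀ * k.1 * P'ᵀ
    have hk₁ : k₁ * J * k₁ᵀ = (c : F) • J := by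
      calc k₁ * J * k₁ᵀ = (s : F) • (Pᵀ * k.1 * (P'ᵀ * Pᵀ) * g.1 * (P * P') * k.1ᵀ * P) := by
            rw [show J = (s : F) • (Pᵀ * g.1 * P) from hs.symm]
            simp only [k₁, transpose_mul, transpose_transpose, Matrix.mul_smul, Matrix.smul_mul, Matrix.mul_assoc]
        _ = (s : F) • (Pᵀ * (k.1 * g.1 * k.1ᵀ) * P) := by
            rw [hT, hP]; simp only [Matrix.mul_assoc, Matrix.one_mul]
        _ = _ := by
            rw [hc, Matrix.mul_smul, Matrix.smul_mul, smul_comm, hs]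
    have hmem : D (c⁻¹ : Fˣ).1 * k₁ ∈ Matrix.symplecticGroup (Fin k') F := by
      rw [SymplecticGroup.mem_iff]
      calc D (c⁻¹ : Fˣ).1 * k₁ * J * (D (c⁻¹ : Fˣ).1 * k₁)ᵀ
          = D (c⁻¹ : Fˣ).1 * (k₁ * J * k₁ᵀ) * (D (c⁻¹ : Fˣ).1)ᵀ := by simp only [transpose_mul, Matrix.mul_assoc]
        _ = J := by rw [hk₁, Matrix.mul_smul, Matrix.smul_mul, hD, smul_smul, Units.mul_inv, one_smul]
    have e := SymplecticGroup.det_eq_one hmem
    rw [det_mul, hDd, det_conj_of_mul_eq_one (M := Pᵀ) (M' := P'ᵀ) hT' hT] at e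
    calc (c : F) ^ k' = (c : F) ^ k' * (((c⁻¹ : Fˣ) : F) ^ k' * k.1.det) := by rw [e, mul_one]
      _ = _ := by rw [← mul_assoc, ← mul_pow, Units.mul_inv, one_pow, one_mul]
  · rintro u ⟨c, rfl⟩
    have hg' : g.1 = ((s⁻¹ : Fˣ) : F) • (P'ᵀ * J * P') := by
      rw [← hs, Matrix.mul_smul, Matrix.smul_mul, smul_smul, Units.inv_mul, one_smul, Matrix.mul_assoc Pᵀ,
        ← Matrix.mul_assoc P'ᵀ, hT, Matrix.one_mul, Matrix.mul_assoc, hP, Matrix.mul_one]
    let k : GL (Fin (2 * k')) F := ⟨P'ᵀ * D (c : F) * Pᵀ, P'ᵀ * D (c⁻¹ : Fˣ).1 * Pᵀ,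
      by
        calc _ = P'ᵀ * (D (c : F) * (Pᵀ * P'ᵀ) * D (c⁻¹ : Fˣ).1) * Pᵀ := by simp only [Matrix.mul_assoc]
          _ = 1 := by
            rw [hT', Matrix.mul_one, show D (c : F) * D (c⁻¹ : Fˣ).1 = 1 by
              simp [D, fromBlocks_multiply, smul_smul], Matrix.mul_one, hT],
      by
        calc _ = P'ᵀ * (D (c⁻¹ : Fˣ).1 * (Pᵀ * P'ᵀ) * D (c : F)) * Pᵀ := by simp only [Matrix.mul_assoc]
          _ = 1 := by
            rw [hT', Matrix.mul_one, show D (c⁻¹ : Fˣ).1 * D (c : F) = 1 by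
              simp [D, fromBlocks_multiply, smul_smul], Matrix.mul_one, hT]⟩
    refine ⟨k, ⟨c, ?_⟩, Units.ext ?_⟩
    · show P'ᵀ * D (c : F) * Pᵀ * g.1 * (P'ᵀ * D (c : F) * Pᵀ)ᵀ = _
      rw [hg', Matrix.mul_smul, Matrix.smul_mul, smul_comm (c : F)]
      congr 1
      calc _ = P'ᵀ * (D (c : F) * (Pᵀ * P'ᵀ) * J * (P' * P) * (D (c : F))ᵀ) * P' := by
            simp only [transpose_mul, transpose_transpose, Matrix.mul_assoc]
        _ = _ := by rw [hT', hP', Matrix.mul_one, Matrix.mul_one, hD, Matrix.mul_smul, Matrix.smul_mul]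
    · show (P'ᵀ * D (c : F) * Pᵀ).det = (c : F) ^ k'
      rw [det_conj_of_mul_eq_one hT hT', hDd]

/-- The classes for a symmetric matrix, `n` even and `q` odd. -/
theorem split_symm (h2 : (2 : F) ≠ 0) {m : ℕ} (hn : n = 2 * m) (hm : 1 ≤ m) (g : GL (Fin n) F) (hg : g.1ᵀ = g.1) :
    Cfsg.splitClassCount (Cfsg.inndiagPSL n F) (Cfsg.Inn PSL) (γ g) = Nat.gcd n (Fintype.card F - 1) / 2 := by
  classical
  subst hn
  have h1 : (-1 : Fˣ) ≠ 1 := fun h => h2 (by
    have := congrArg Units.val h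
    rw [Units.val_neg, Units.val_one] at this
    linear_combination -this)
  set T := ((SimGrp g.1).comap dualGL).map (GeneralLinearGroup.det : GL (Fin (2 * m)) F →* Fˣ)
  have hT : ∀ (k : GL (Fin (2 * m)) F) (c : Fˣ), k.1 * g.1 * k.1ᵀ = (c : F) • g.1 → GeneralLinearGroup.det k ∈ T :=
    fun k c h => ⟨k, (dual_mem_iff k g).mpr ⟨c, h⟩, rfl⟩
  have hneg : (-1 : Fˣ) ∈ T := by
    haveI : Invertible (2 : F) := invertibleOfNonzero h2
    obtain ⟨d, Q, hQ, hQd⟩ := FiniteForms.exists_diag g.1 (show g.1.IsSymm from hg)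
    have hu : IsUnit Q.det := isUnit_iff_ne_zero.2 hQ
    let i₀ : Fin (2 * m) := ⟨0, by omega⟩
    let r : Fin (2 * m) → F := Function.update 1 i₀ (-1)
    have hrr : ∀ i, r i * r i = 1 := fun i => by
      rcases eq_or_ne i i₀ with h | h <;> simp [r, h]
    have hQ' : (Q⁻¹)ᵀ * Qᵀ = 1 := by rw [← transpose_mul, mul_nonsing_inv _ hu, transpose_one]
    have hQ'' : Qᵀ * (Q⁻¹)ᵀ = 1 := by rw [← transpose_mul, nonsing_inv_mul _ hu, transpose_one]
    have hkd : ((Q⁻¹)ᵀ * diagonal r * Qᵀ).det = -1 := by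
      rw [det_conj_of_mul_eq_one hQ' hQ'', det_diagonal, Finset.prod_update_of_mem (Finset.mem_univ i₀)]
      simp
    let k := GeneralLinearGroup.mkOfDetNeZero ((Q⁻¹)ᵀ * diagonal r * Qᵀ)
      (by rw [hkd]; exact neg_ne_zero.mpr one_ne_zero)
    have hk : k.1 * g.1 * k.1ᵀ = ((1 : Fˣ) : F) • g.1 := by
      show (Q⁻¹)ᵀ * diagonal r * Qᵀ * g.1 * ((Q⁻¹)ᵀ * diagonal r * Qᵀ)ᵀ = _
      calc _ = (Q⁻¹)ᵀ * (diagonal r * (Qᵀ * g.1 * Q) * diagonal r) * Q⁻¹ := by
            simp only [transpose_mul, transpose_transpose, diagonal_transpose, Matrix.mul_assoc]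
        _ = (Q⁻¹)ᵀ * (Qᵀ * g.1 * Q) * Q⁻¹ := by
            rw [hQd, diagonal_mul_diagonal, diagonal_mul_diagonal,
              show (fun i => r i * d i * r i) = d from funext fun i => by linear_combination d i * hrr i]
        _ = (Q⁻¹)ᵀ * Qᵀ * g.1 * (Q * Q⁻¹) := by simp only [Matrix.mul_assoc]
        _ = _ := by rw [hQ', mul_nonsing_inv _ hu, Matrix.one_mul, Matrix.mul_one, Units.val_one, one_smul]
    have := hT k 1 hk
    rwa [show GeneralLinearGroup.det k = -1 from Units.ext (by rw [GeneralLinearGroup.val_det_apply]; exact hkd)] at this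
  have hpow : ∀ c : Fˣ, c ^ m ∈ T := by
    intro c
    obtain ⟨P, hP, hPc⟩ : FiniteForms.Congr g.1 ((c : F) • g.1) := by
      rw [FiniteForms.congr_iff h2 hg (by rw [Matrix.IsSymm, transpose_smul, hg]) (det_gl_ne g)
        (by rw [det_smul]; exact mul_ne_zero (pow_ne_zero _ c.ne_zero) (det_gl_ne g))]
      exact ⟨(c : F) ^ m * g.1.det, by rw [det_smul, Fintype.card_fin]; ring⟩
    let k := GeneralLinearGroup.mkOfDetNeZero Pᵀ (by rwa [det_transpose])
    have hk : k.1 * g.1 * k.1ᵀ = (c : F) • g.1 := by show Pᵀ * g.1 * Pᵀᵀ = _; rw [transpose_transpose, hPc]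
    have hmem := hT k c hk
    have e : GeneralLinearGroup.det k = c ^ m ∨ GeneralLinearGroup.det k = -c ^ m := by
      have e := det_sq hk
      rw [show (c : F) ^ (2 * m) = (c : F) ^ m * (c : F) ^ m by rw [two_mul, pow_add], mul_self_eq_mul_self_iff] at e
      rcases e with e | e
      · exact Or.inl (Units.ext (by rw [GeneralLinearGroup.val_det_apply, Units.val_pow_eq_pow_val]; exact e))
      · exact Or.inr (Units.ext (by
          rw [GeneralLinearGroup.val_det_apply, Units.val_neg, Units.val_pow_eq_pow_val]; exact e))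
    rcases e with e | e
    · rwa [e] at hmem
    · rw [e] at hmem
      have := mul_mem hneg hmem
      rwa [neg_one_mul, neg_neg] at this
  rw [splitCount (by omega) g ((powMonoidHom m : Fˣ →* Fˣ).range ⊔ Subgroup.zpowers (-1)) ?_ ?_,
    index_powRange_sup]
  · have h2' : orderOf (-1 : Fˣ) = 2 := by
      rw [orderOf_eq_prime_iff]; exact ⟨by rw [pow_two, neg_mul_neg, one_mul], h1⟩
    have hidx := (Subgroup.zpowers (-1 : Fˣ)).card_mul_index
    rw [Nat.card_zpowers, h2', card_units_eq] at hidx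
    rw [← hidx, Nat.gcd_mul_left 2 m, Nat.mul_div_cancel_left _ two_pos, ← Nat.gcd_assoc,
      Nat.gcd_eq_right (dvd_mul_left m 2)]
  · rintro k ⟨c, hc⟩
    refine Subgroup.mem_sup_right ?_
    have e := det_sq hc
    rw [show (c : F) ^ (2 * m) = (c : F) ^ m * (c : F) ^ m by rw [two_mul, pow_add], mul_self_eq_mul_self_iff] at e
    rcases e with e | e
    · refine Subgroup.mem_sup_left ⟨c, Units.ext ?_⟩
      show (c : F) ^ m = k.1.det
      exact e.symm
    · have hc' : GeneralLinearGroup.det k = c ^ m * (-1) := Units.ext (by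
        rw [GeneralLinearGroup.val_det_apply, Units.val_mul, Units.val_neg, Units.val_pow_eq_pow_val, Units.val_one,
          mul_neg_one]
        exact e)
      rw [hc']
      exact mul_mem (Subgroup.mem_sup_left ⟨c, rfl⟩) (Subgroup.mem_sup_right (Subgroup.mem_zpowers _))
  · intro u hu
    have hle : (powMonoidHom m : Fˣ →* Fˣ).range ⊔ Subgroup.zpowers (-1) ≤ T :=
      sup_le (by rintro _ ⟨c, rfl⟩; exact hpow c) ((Subgroup.zpowers_le).mpr hneg)
    obtain ⟨k, hk, e⟩ := hle hu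
    exact ⟨k, (dual_mem_iff k g).mp hk, e⟩

end CfsgLib.PSLnGraph
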