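import Cfsg.Agent.Lib.FiniteForms.Congr
import Cfsg.Agent.Lib.SympTransvection
import Cfsg.Prelude.Def_LieTypeDatum

/-!
Congruence up to scalars of symmetric and alternating matrices, and similarity groups of bilinear forms.
-/

set_option autoImplicit false

namespace CfsgLib.PSLnGraph

open Matrix

variable {F : Type*} [Field F]

section basics

variable {ι κ μ : Type} [Fintype ι] [DecidableEq ι] [Fintype κ] [DecidableEq κ] [Fintype μ] [DecidableEq μ]

/-- The similarity group of the bilinear form with matrix `G`. -/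
def SimGrp (G : Matrix ι ι F) : Subgroup (GL ι F) where
  carrier := {k | ∃ c : Fˣ, k.1ᵀ * G * k.1 = (c : F) • G}
  one_mem' := ⟨1, by simp⟩
  mul_mem' := by
    rintro a b ⟨c, hc⟩ ⟨d, hd⟩
    refine ⟨c * d, ?_⟩
    calc (a * b).1ᵀ * G * (a * b).1 = b.1ᵀ * (a.1ᵀ * G * a.1) * b.1 := by
          simp only [Units.val_mul, transpose_mul, Matrix.mul_assoc]
      _ = _ := by rw [hc, Matrix.mul_smul, Matrix.smul_mul, hd, smul_smul, Units.val_mul]
  inv_mem' := by
    rintro a ⟨c, hc⟩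
    refine ⟨c⁻¹, ?_⟩
    have h : (a⁻¹).1ᵀ * (a.1ᵀ * G * a.1) * (a⁻¹).1 = G := by
      rw [Matrix.mul_assoc a.1ᵀ, ← Matrix.mul_assoc, ← transpose_mul, Units.mul_inv, transpose_one,
        Matrix.one_mul, Matrix.mul_assoc, Units.mul_inv, Matrix.mul_one]
    rw [hc, Matrix.mul_smul, Matrix.smul_mul] at h
    calc (a⁻¹).1ᵀ * G * (a⁻¹).1 = (c⁻¹ : Fˣ).1 • ((c : F) • ((a⁻¹).1ᵀ * G * (a⁻¹).1)) := by
          rw [smul_smul, Units.inv_mul, one_smul]
      _ = _ := by rw [h]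

theorem mem_simGrp {G : Matrix ι ι F} {k : GL ι F} :
    k ∈ SimGrp G ↔ ∃ c : Fˣ, k.1ᵀ * G * k.1 = (c : F) • G := Iff.rfl

/-- Congruence up to a non-zero scalar. -/
def Rel (G : Matrix ι ι F) (H : Matrix κ κ F) : Prop :=
  ∃ (P : Matrix ι κ F) (P' : Matrix κ ι F) (s : Fˣ), P * P' = 1 ∧ P' * P = 1 ∧ (s : F) • (Pᵀ * G * P) = H

theorem Rel.refl (G : Matrix ι ι F) : Rel G G :=
  ⟨1, 1, 1, one_mul 1, one_mul 1, by simp⟩

theorem Rel.trans {G : Matrix ι ι F} {H : Matrix κ κ F} {K : Matrix μ μ F} (h₁ : Rel G H) (h₂ : Rel H K) :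
    Rel G K := by
  obtain ⟨P, P', s, hP, hP', rfl⟩ := h₁
  obtain ⟨Q, Q', t, hQ, hQ', rfl⟩ := h₂
  refine ⟨P * Q, Q' * P', t * s, ?_, ?_, ?_⟩
  · rw [Matrix.mul_assoc, ← Matrix.mul_assoc Q, hQ, Matrix.one_mul, hP]
  · rw [Matrix.mul_assoc, ← Matrix.mul_assoc P', hP', Matrix.one_mul, hQ']
  · simp only [transpose_mul, Matrix.mul_assoc, Matrix.mul_smul, Matrix.smul_mul, smul_smul, Units.val_mul]

theorem Rel.symm {G : Matrix ι ι F} {H : Matrix κ κ F} (h : Rel G H) : Rel H G := by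
  obtain ⟨P, P', s, hP, hP', rfl⟩ := h
  refine ⟨P', P, s⁻¹, hP', hP, ?_⟩
  have e : P'ᵀ * (Pᵀ * G * P) * P' = G := by
    rw [Matrix.mul_assoc Pᵀ, ← Matrix.mul_assoc, ← transpose_mul, hP, transpose_one, Matrix.one_mul,
      Matrix.mul_assoc, hP, Matrix.mul_one]
  rw [Matrix.mul_smul, Matrix.smul_mul, e, smul_smul, Units.inv_mul, one_smul]

theorem rel_of_congr {G H : Matrix ι ι F} (h : FiniteForms.Congr G H) : Rel G H := by
  obtain ⟨P, hP, rfl⟩ := h
  exact ⟨P, P⁻¹, 1, mul_nonsing_inv _ (isUnit_iff_ne_zero.2 hP), nonsing_inv_mul _ (isUnit_iff_ne_zero.2 hP),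
    by simp⟩

theorem rel_smul (G : Matrix ι ι F) (s : Fˣ) : Rel G ((s : F) • G) := ⟨1, 1, s, one_mul 1, one_mul 1, by simp⟩

theorem Rel.det_eq {G H : Matrix ι ι F} (h : Rel G H) :
    ∃ (s p : F), s ≠ 0 ∧ p ≠ 0 ∧ H.det = s ^ Fintype.card ι * (p * p) * G.det := by
  obtain ⟨P, P', s, hP, -, rfl⟩ := h
  refine ⟨s, P.det, s.ne_zero, fun h0 => ?_, ?_⟩
  · have := congrArg Matrix.det hP
    rw [det_mul, h0, zero_mul, det_one] at this
    exact zero_ne_one this
  · rw [det_smul, det_mul, det_mul, det_transpose]; ring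

/-- Conjugation by an invertible rectangular matrix. -/
def glConj (P : Matrix ι κ F) (P' : Matrix κ ι F) (hP : P * P' = 1) (hP' : P' * P = 1) : GL ι F ≃* GL κ F where
  toFun k := ⟨P' * k.1 * P, P' * (k⁻¹).1 * P,
    by rw [Matrix.mul_assoc, ← Matrix.mul_assoc P, ← Matrix.mul_assoc P, hP, Matrix.one_mul, ← Matrix.mul_assoc,
      Matrix.mul_assoc P', Units.mul_inv, Matrix.mul_one, hP'],
    by rw [Matrix.mul_assoc, ← Matrix.mul_assoc P, ← Matrix.mul_assoc P, hP, Matrix.one_mul, ← Matrix.mul_assoc,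
      Matrix.mul_assoc P', Units.inv_mul, Matrix.mul_one, hP']⟩
  invFun k := ⟨P * k.1 * P', P * (k⁻¹).1 * P',
    by rw [Matrix.mul_assoc, ← Matrix.mul_assoc P', ← Matrix.mul_assoc P', hP', Matrix.one_mul, ← Matrix.mul_assoc,
      Matrix.mul_assoc P, Units.mul_inv, Matrix.mul_one, hP],
    by rw [Matrix.mul_assoc, ← Matrix.mul_assoc P', ← Matrix.mul_assoc P', hP', Matrix.one_mul, ← Matrix.mul_assoc,
      Matrix.mul_assoc P, Units.inv_mul, Matrix.mul_one, hP]⟩
  left_inv k := Units.ext (by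
    show P * (P' * k.1 * P) * P' = k.1
    rw [Matrix.mul_assoc P', ← Matrix.mul_assoc P, hP, Matrix.one_mul, Matrix.mul_assoc, hP, Matrix.mul_one])
  right_inv k := Units.ext (by
    show P' * (P * k.1 * P') * P = k.1
    rw [Matrix.mul_assoc P, ← Matrix.mul_assoc P', hP', Matrix.one_mul, Matrix.mul_assoc, hP', Matrix.mul_one])
  map_mul' a b := Units.ext (by
    show P' * (a.1 * b.1) * P = P' * a.1 * P * (P' * b.1 * P)
    rw [Matrix.mul_assoc (P' * a.1) P, ← Matrix.mul_assoc P, ← Matrix.mul_assoc P, hP, Matrix.one_mul]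
    simp only [Matrix.mul_assoc])

theorem glConj_scalars (P : Matrix ι κ F) (P' : Matrix κ ι F) (hP : P * P' = 1) (hP' : P' * P = 1) (k : GL ι F) :
    glConj P P' hP hP' k ∈ Cfsg.Geo.scalars κ F ↔ k ∈ Cfsg.Geo.scalars ι F := by
  rw [Cfsg.Geo.mem_scalars_iff, Cfsg.Geo.mem_scalars_iff]
  constructor
  · rintro ⟨c, hc⟩
    refine ⟨c, ?_⟩
    change P' * k.1 * P = (c : F) • (1 : Matrix κ κ F) at hc
    calc k.1 = P * (P' * k.1 * P) * P' := by
          rw [Matrix.mul_assoc P', ← Matrix.mul_assoc P, hP, Matrix.one_mul, Matrix.mul_assoc, hP, Matrix.mul_one]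
      _ = _ := by rw [hc, Matrix.mul_smul, Matrix.mul_one, Matrix.smul_mul, hP]
  · rintro ⟨c, hc⟩
    exact ⟨c, show P' * k.1 * P = _ by rw [hc, Matrix.mul_smul, Matrix.mul_one, Matrix.smul_mul, hP']⟩

theorem proj_congr (φ : GL ι F ≃* GL κ F) (hs : ∀ k, φ k ∈ Cfsg.Geo.scalars κ F ↔ k ∈ Cfsg.Geo.scalars ι F)
    (H : Subgroup (GL ι F)) (H' : Subgroup (GL κ F)) (h : ∀ k, φ k ∈ H' ↔ k ∈ H) :
    Nonempty (Cfsg.projQuot H ≃* Cfsg.projQuot H') := by
  let e : ↥H ≃* ↥H' :=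
    { toFun := fun k => ⟨φ k.1, (h _).mpr k.2⟩
      invFun := fun k => ⟨φ.symm k.1, (h _).mp (by rw [φ.apply_symm_apply]; exact k.2)⟩
      left_inv := fun k => Subtype.ext (φ.symm_apply_apply k.1)
      right_inv := fun k => Subtype.ext (φ.apply_symm_apply k.1)
      map_mul' := fun a b => Subtype.ext (map_mul φ a.1 b.1) }
  refine ⟨QuotientGroup.congr _ _ e ?_⟩
  ext k
  constructor
  · rintro ⟨a, ha, rfl⟩
    exact (hs a.1).mpr ha
  · intro hk
    exact ⟨e.symm k, (hs _).mp (by show φ (φ.symm k.1) ∈ _; rw [φ.apply_symm_apply]; exact hk), e.apply_symm_apply k⟩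

theorem simGrp_smul (G : Matrix ι ι F) (s : Fˣ) : SimGrp ((s : F) • G) = SimGrp G := by
  ext k
  simp only [mem_simGrp, Matrix.mul_smul, Matrix.smul_mul]
  refine exists_congr fun c => ?_
  rw [smul_comm (c : F), ← sub_eq_zero, ← smul_sub, smul_eq_zero, sub_eq_zero]
  simp [s.ne_zero]

theorem Rel.projEquiv {G : Matrix ι ι F} {H : Matrix κ κ F} (h : Rel G H) :
    Nonempty (Cfsg.projQuot (SimGrp G) ≃* Cfsg.projQuot (SimGrp H)) := by
  obtain ⟨P, P', s, hP, hP', rfl⟩ := h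
  rw [simGrp_smul]
  refine proj_congr (glConj P P' hP hP') (glConj_scalars P P' hP hP') _ _ fun k => ?_
  rw [mem_simGrp, mem_simGrp]
  refine exists_congr fun c => ?_
  show (P' * k.1 * P)ᵀ * (Pᵀ * G * P) * (P' * k.1 * P) = (c : F) • (Pᵀ * G * P) ↔ _
  have hT : P'ᵀ * Pᵀ = 1 := by rw [← transpose_mul, hP, transpose_one]
  have e : (P' * k.1 * P)ᵀ * (Pᵀ * G * P) * (P' * k.1 * P) = Pᵀ * (k.1ᵀ * G * k.1) * P := by
    calc (P' * k.1 * P)ᵀ * (Pᵀ * G * P) * (P' * k.1 * P) = Pᵀ * k.1ᵀ * (P'ᵀ * Pᵀ) * G * (P * P') * k.1 * P := by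
          simp only [transpose_mul, Matrix.mul_assoc]
      _ = _ := by rw [hT, hP]; simp only [Matrix.mul_assoc, Matrix.one_mul]
  rw [e]
  constructor
  · intro h
    have h2 : P'ᵀ * (Pᵀ * (k.1ᵀ * G * k.1) * P) * P' = P'ᵀ * ((c : F) • (Pᵀ * G * P)) * P' := by rw [h]
    have cancel : ∀ M : Matrix ι ι F, P'ᵀ * (Pᵀ * M * P) * P' = M := fun M => by
      rw [Matrix.mul_assoc Pᵀ, ← Matrix.mul_assoc, hT, Matrix.one_mul, Matrix.mul_assoc, hP, Matrix.mul_one]
    rwa [Matrix.mul_smul, Matrix.smul_mul, cancel, cancel] at h2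
  · intro h
    rw [h, Matrix.mul_smul, Matrix.smul_mul]

end basics

section forms

variable {ι : Type} [Fintype ι] [DecidableEq ι]

theorem gram_apply {κ : Type} [Fintype κ] (G : Matrix ι ι F) (P : Matrix ι κ F) (a b : κ) :
    (Pᵀ * G * P) a b = (fun i => P i a) ⬝ᵥ (G *ᵥ fun i => P i b) := by
  rw [Matrix.mul_assoc, Matrix.mul_apply]
  rfl

theorem alt_quad {G : Matrix ι ι F} (hskew : Gᵀ = -G) (hdiag : ∀ i, G i i = 0) (x : ι → F) :
    x ⬝ᵥ (G *ᵥ x) = 0 := by
  have hs : ∀ y z : ι → F, z ⬝ᵥ (G *ᵥ y) = -(y ⬝ᵥ (G *ᵥ z)) := fun y z => by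
    rw [dotProduct_mulVec, ← mulVec_transpose, hskew, neg_mulVec, neg_dotProduct, dotProduct_comm]
  let φ : (ι → F) →+ F := AddMonoidHom.mk' (fun y => y ⬝ᵥ (G *ᵥ y)) fun y z => by
    simp only [mulVec_add, dotProduct_add, add_dotProduct]
    linear_combination hs y z
  have e : x = ∑ i, Pi.single i (x i) := (Finset.univ_sum_single x).symm
  show φ x = 0
  rw [e, map_sum]
  refine Finset.sum_eq_zero fun i _ => ?_
  show Pi.single i (x i) ⬝ᵥ (G *ᵥ Pi.single i (x i)) = 0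
  rw [single_dotProduct, mulVec_single]
  simp [hdiag]

/-- A maximal family of symplectic pairs for an alternating matrix. -/
theorem exists_pairs {G : Matrix ι ι F} (hskew : Gᵀ = -G) (hdiag : ∀ i, G i i = 0) :
    ∃ (m : ℕ) (P : Matrix ι (Fin m ⊕ Fin m) F), Pᵀ * G * P = Matrix.J (Fin m) F ∧
      ∀ x, Pᵀ *ᵥ (G *ᵥ x) = 0 → G *ᵥ x = 0 := by
  classical
  by_contra hno
  push Not at hno
  have hs : ∀ y z : ι → F, z ⬝ᵥ (G *ᵥ y) = -(y ⬝ᵥ (G *ᵥ z)) := fun y z => by
    rw [dotProduct_mulVec, ← mulVec_transpose, hskew, neg_mulVec, neg_dotProduct, dotProduct_comm]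
  have grow : ∀ m, ∃ P : Matrix ι (Fin m ⊕ Fin m) F, Pᵀ * G * P = Matrix.J (Fin m) F := by
    intro m
    induction m with
    | zero => exact ⟨0, Subsingleton.elim _ _⟩
    | succ m ih =>
      obtain ⟨P, hP⟩ := ih
      obtain ⟨x, hx, hGx⟩ := hno m P hP
      obtain ⟨i, hi⟩ := Function.ne_iff.mp hGx
      set y₀ : ι → F := Pi.single i (-((G *ᵥ x) i)⁻¹) with hy₀
      set a := Matrix.J (Fin m) F *ᵥ (Pᵀ *ᵥ (G *ᵥ y₀)) with ha
      set y := y₀ + P *ᵥ a with hy
      have hy0 : x ⬝ᵥ (G *ᵥ y₀) = 1 := by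
        rw [hs y₀ x, hy₀, single_dotProduct]
        simp only [Pi.zero_apply, ne_eq] at hi
        rw [neg_mul, neg_neg, inv_mul_cancel₀ hi]
      have hxP : ∀ v, x ⬝ᵥ (G *ᵥ (P *ᵥ v)) = 0 := fun v => by
        rw [hs (P *ᵥ v) x, dotProduct_comm, dotProduct_mulVec (G *ᵥ x), ← mulVec_transpose, hx, zero_dotProduct,
          neg_zero]
      have hxy : x ⬝ᵥ (G *ᵥ y) = 1 := by rw [hy, mulVec_add, dotProduct_add, hy0, hxP, add_zero]
      have hPy : Pᵀ *ᵥ (G *ᵥ y) = 0 := by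
        rw [hy, mulVec_add, mulVec_add,
          show Pᵀ *ᵥ (G *ᵥ (P *ᵥ a)) = (Pᵀ * G * P) *ᵥ a by rw [← mulVec_mulVec, ← mulVec_mulVec], hP, ha,
          show ∀ z, Matrix.J (Fin m) F *ᵥ (Matrix.J (Fin m) F *ᵥ z) = -z from fun z => by
            rw [mulVec_mulVec, Matrix.J_squared, neg_mulVec, one_mulVec], add_neg_cancel]
      have hcol : ∀ (z : ι → F), Pᵀ *ᵥ (G *ᵥ z) = 0 → ∀ b, (fun i => P i b) ⬝ᵥ (G *ᵥ z) = 0 :=
        fun z hz b => congrFun hz b
      let Q : Matrix ι (Fin (m + 1) ⊕ Fin (m + 1)) F := Matrix.of fun i => Sum.elim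
        (Fin.snoc (fun k => P i (Sum.inl k)) (y i)) (Fin.snoc (fun k => P i (Sum.inr k)) (x i))
      have c1 : ∀ k : Fin m, (fun i => Q i (Sum.inl k.castSucc)) = fun i => P i (Sum.inl k) := fun k =>
        funext fun i => by simp [Q]
      have c2 : (fun i => Q i (Sum.inl (Fin.last m))) = y := funext fun i => by simp [Q]
      have c3 : ∀ k : Fin m, (fun i => Q i (Sum.inr k.castSucc)) = fun i => P i (Sum.inr k) := fun k =>
        funext fun i => by simp [Q]
      have c4 : (fun i => Q i (Sum.inr (Fin.last m))) = x := funext fun i => by simp [Q]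
      have hPP : ∀ a b, (fun i => P i a) ⬝ᵥ (G *ᵥ fun i => P i b) = Matrix.J (Fin m) F a b := fun a b => by
        rw [← gram_apply, hP]
      have hzP : ∀ z, Pᵀ *ᵥ (G *ᵥ z) = 0 → ∀ b, z ⬝ᵥ (G *ᵥ fun i => P i b) = 0 := fun z hz b => by
        rw [hs _ z, hcol z hz b, neg_zero]
      refine ⟨Q, Matrix.ext fun s t => ?_⟩
      rw [gram_apply]
      rcases s with s | s <;> rcases t with t | t <;> induction s using Fin.lastCases <;>
        induction t using Fin.lastCases <;>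
        simp [c1, c2, c3, c4, hPP, hcol y hPy, hcol x hx, hzP y hPy, hzP x hx, hxy, hs x y,
          alt_quad hskew hdiag, Matrix.J, Matrix.one_apply, Fin.castSucc_ne_last, fun k : Fin m => (Fin.castSucc_ne_last k).symm]
  obtain ⟨P, hP⟩ := grow (Fintype.card ι + 1)
  have hinj : Function.Injective P.mulVecLin := by
    intro u v huv
    have h : P *ᵥ u = P *ᵥ v := huv
    have := congrArg (fun w => Pᵀ *ᵥ (G *ᵥ w)) h
    simp only [mulVec_mulVec, ← Matrix.mul_assoc, hP] at this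
    exact Matrix.mulVec_injective_of_isUnit
      ((Matrix.isUnit_iff_isUnit_det _).mpr (Matrix.isUnit_det_J _ F)) this
  have := LinearMap.finrank_le_finrank_of_injective hinj
  simp at this
  omega

theorem rel_of_gram {κ : Type} [Fintype κ] [DecidableEq κ] {G : Matrix ι ι F} {H : Matrix κ κ F}
    (P : Matrix ι κ F) (hP : Pᵀ * G * P = H) (hH : IsUnit H.det) (hc : Fintype.card κ = Fintype.card ι) :
    Rel G H := by
  have h1 : (H⁻¹ * Pᵀ * G) * P = 1 := by
    rw [Matrix.mul_assoc, Matrix.mul_assoc, ← Matrix.mul_assoc Pᵀ, hP, nonsing_inv_mul _ hH]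
  exact ⟨P, H⁻¹ * Pᵀ * G, 1, (Matrix.mul_eq_one_comm_of_card_eq (A := H⁻¹ * Pᵀ * G) (B := P) (eq := hc)).mp h1, h1, by rw [Units.val_one, one_smul, hP]⟩

/-- An invertible alternating matrix is congruent to the standard one. -/
theorem exists_symp {G : Matrix ι ι F} (hskew : Gᵀ = -G) (hdiag : ∀ i, G i i = 0) (hdet : G.det ≠ 0) :
    ∃ m : ℕ, Fintype.card ι = m + m ∧ Rel G (Matrix.J (Fin m) F) := by
  obtain ⟨m, P, hP, hmax⟩ := exists_pairs hskew hdiag
  have hinj : Function.Injective (Pᵀ * G).mulVecLin := by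
    rw [← LinearMap.ker_eq_bot, Submodule.eq_bot_iff]
    intro x hx
    rw [LinearMap.mem_ker, mulVecLin_apply, ← mulVec_mulVec] at hx
    exact Matrix.mulVec_injective_of_isUnit ((Matrix.isUnit_iff_isUnit_det _).mpr (isUnit_iff_ne_zero.2 hdet))
      ((hmax x hx).trans (mulVec_zero G).symm)
  have hinjP : Function.Injective P.mulVecLin := by
    intro u v huv
    have := congrArg (fun w => (Pᵀ * G) *ᵥ w) (show P *ᵥ u = P *ᵥ v from huv)
    simp only [mulVec_mulVec, hP] at this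
    exact Matrix.mulVec_injective_of_isUnit
      ((Matrix.isUnit_iff_isUnit_det _).mpr (Matrix.isUnit_det_J _ F)) this
  have h1 := LinearMap.finrank_le_finrank_of_injective hinj
  have h2 := LinearMap.finrank_le_finrank_of_injective hinjP
  simp at h1 h2
  exact ⟨m, by omega, rel_of_gram P hP (Matrix.isUnit_det_J _ F) (by simp; omega)⟩

variable [Finite F]

/-- The standard symmetric non-alternating matrix of even size in characteristic two. -/
def J₂ (m : ℕ) (u : Fin m ⊕ Fin m → F) : Matrix (Fin m ⊕ Fin m) (Fin m ⊕ Fin m) F :=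
  Matrix.J (Fin m) F + vecMulVec u u

theorem sq_surj (h2 : (2 : F) = 0) (a : F) : ∃ t : F, a = t * t := by
  haveI : CharP F 2 := CharTwo.of_one_ne_zero_of_two_eq_zero one_ne_zero h2
  obtain ⟨t, ht⟩ := (Finite.injective_iff_surjective.mp (frobenius_inj F 2)) a
  exact ⟨t, by rw [← ht, frobenius_def, pow_two]⟩

/-- Symmetric invertible matrices in characteristic two. -/
theorem symm_two (h2 : (2 : F) = 0) {G : Matrix ι ι F} (hsymm : Gᵀ = G) (hdet : G.det ≠ 0)
    (hna : ∃ i, G i i ≠ 0) :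
    (∃ (m : ℕ) (u : Fin m ⊕ Fin m → F), Fintype.card ι = m + m ∧ u ≠ 0 ∧ Rel G (J₂ m u)) ∨
      ∃ m : ℕ, Fintype.card ι = 1 + (m + m) ∧
        Rel G (fromBlocks (1 : Matrix Unit Unit F) 0 0 (Matrix.J (Fin m) F)) := by
  classical
  haveI : CharP F 2 := CharTwo.of_one_ne_zero_of_two_eq_zero one_ne_zero h2
  have hneg : ∀ {κ : Type} (M : Matrix κ κ F), -M = M := fun M => Matrix.ext fun i j => CharTwo.neg_eq _
  choose v hv using fun i => sq_surj h2 (G i i)
  have hu : IsUnit G.det := isUnit_iff_ne_zero.2 hdet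
  set w := G⁻¹ *ᵥ v with hw
  have hGw : G *ᵥ w = v := by rw [hw, mulVec_mulVec, mul_nonsing_inv _ hu, one_mulVec]
  set G' := G + vecMulVec v v with hG'
  have hskew : G'ᵀ = -G' := by
    rw [hneg, hG', transpose_add, hsymm, transpose_vecMulVec]
  have hdiag : ∀ i, G' i i = 0 := fun i => by
    simp only [hG', Matrix.add_apply, vecMulVec_apply, hv]; exact CharTwo.add_self_eq_zero _
  have hGG' : G = G' + vecMulVec v v := by
    rw [hG', add_assoc]
    ext i j
    simp [CharTwo.add_self_eq_zero]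
  have hcc : (v ⬝ᵥ w) * (v ⬝ᵥ w) = v ⬝ᵥ w := by
    have h := alt_quad hskew hdiag w
    rw [hG', add_mulVec, hGw, vecMulVec_mulVec, dotProduct_add, op_smul_eq_smul, dotProduct_smul, smul_eq_mul,
      dotProduct_comm w v] at h
    calc (v ⬝ᵥ w) * (v ⬝ᵥ w) = (v ⬝ᵥ w) * (v ⬝ᵥ w) + ((v ⬝ᵥ w) + (v ⬝ᵥ w) * (v ⬝ᵥ w)) := by rw [h, add_zero]
      _ = _ := by linear_combination (v ⬝ᵥ w) * (v ⬝ᵥ w) * h2
  have hG'mul : G' = G * (1 + vecMulVec w v) := by
    rw [Matrix.mul_add, Matrix.mul_one, mul_vecMulVec, hGw]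
  rcases eq_or_ne (v ⬝ᵥ w) 0 with hc | hc
  · left
    have hd' : G'.det ≠ 0 := by
      rw [hG'mul, det_mul, vecMulVec_eq Unit, det_one_add_replicateCol_mul_replicateRow, hc, add_zero, mul_one]
      exact hdet
    obtain ⟨m, hm, P, P', s, hP, hP', hs⟩ := exists_symp hskew hdiag hd'
    obtain ⟨t, ht⟩ := sq_surj h2 (s : F)
    refine ⟨m, t • (Pᵀ *ᵥ v), hm, ?_, P, P', s, hP, hP', ?_⟩
    · have ht0 : t ≠ 0 := by rintro rfl; simp at ht
      obtain ⟨i, hi⟩ := hna
      have hv0 : v ≠ 0 := fun h => hi (by rw [hv i, h]; simp)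
      intro h
      apply hv0
      have h' := congrArg (fun z => P'ᵀ *ᵥ z) ((smul_eq_zero.mp h).resolve_left ht0)
      simp only [mulVec_mulVec, ← transpose_mul, hP, transpose_one, one_mulVec, mulVec_zero] at h'
      exact h'
    · rw [J₂, ← hs]
      conv_lhs => rw [hGG']
      rw [Matrix.mul_add, Matrix.add_mul, mul_vecMulVec, vecMulVec_mul, ← mulVec_transpose, smul_add]
      congr 1
      rw [smul_vecMulVec, vecMulVec_smul, smul_smul, ← ht]
  · right
    have hc1 : v ⬝ᵥ w = 1 := mul_left_cancel₀ hc (by rw [hcc, mul_one])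
    have hG'w : G' *ᵥ w = 0 := by
      rw [hG', add_mulVec, hGw, vecMulVec_mulVec, op_smul_eq_smul, hc1, one_smul]
      funext i; exact CharTwo.add_self_eq_zero _
    obtain ⟨m, P, hP, hmax⟩ := exists_pairs hskew hdiag
    set P₁ := P + vecMulVec w (Pᵀ *ᵥ v) with hP₁
    have hvP₁ : P₁ᵀ *ᵥ v = 0 := by
      rw [hP₁, transpose_add, transpose_vecMulVec, add_mulVec, vecMulVec_mulVec, op_smul_eq_smul,
        dotProduct_comm, hc1, one_smul]
      funext i; exact CharTwo.add_self_eq_zero _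
    have hP₁G' : P₁ᵀ * G' * P₁ = Matrix.J (Fin m) F := by
      have h1 : G' * vecMulVec w (Pᵀ *ᵥ v) = 0 := by rw [mul_vecMulVec, hG'w, zero_vecMulVec]
      have h3 : vecMulVec (Pᵀ *ᵥ v) w * G' = 0 := by
        rw [vecMulVec_mul, ← mulVec_transpose, hskew, neg_mulVec, hG'w, neg_zero]
        ext i j; simp [vecMulVec_apply]
      rw [hP₁, transpose_add, transpose_vecMulVec, Matrix.add_mul, h3, add_zero, Matrix.mul_add,
        Matrix.mul_assoc Pᵀ G' (vecMulVec _ _), h1, Matrix.mul_zero, add_zero, hP]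
    have hP₁G : P₁ᵀ * G * P₁ = Matrix.J (Fin m) F := by
      rw [hGG', Matrix.mul_add P₁ᵀ, Matrix.add_mul _ _ P₁, hP₁G', mul_vecMulVec, hvP₁, zero_vecMulVec, Matrix.zero_mul,
        add_zero]
    let Q : Matrix ι (Unit ⊕ (Fin m ⊕ Fin m)) F := Matrix.of fun i => Sum.elim (fun _ => w i) (P₁ i)
    have hsw : ∀ y z : ι → F, y ⬝ᵥ (G *ᵥ z) = z ⬝ᵥ (G *ᵥ y) := fun y z => by
      rw [dotProduct_mulVec, ← mulVec_transpose, hsymm, dotProduct_comm]
    have hQ : Qᵀ * G * Q = fromBlocks (1 : Matrix Unit Unit F) 0 0 (Matrix.J (Fin m) F) := by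
      have hwP : ∀ b, (fun i => P₁ i b) ⬝ᵥ v = 0 := fun b => congrFun hvP₁ b
      ext a b
      rw [gram_apply]
      rcases a with a | a <;> rcases b with b | b
      · show w ⬝ᵥ (G *ᵥ w) = _
        rw [hGw, dotProduct_comm, hc1]
        simp
      · show w ⬝ᵥ (G *ᵥ fun i => P₁ i b) = _
        rw [hsw, hGw, hwP]
        simp
      · show (fun i => P₁ i a) ⬝ᵥ (G *ᵥ w) = _
        rw [hGw, hwP]
        simp
      · show (fun i => P₁ i a) ⬝ᵥ (G *ᵥ fun i => P₁ i b) = _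
        rw [← gram_apply, hP₁G]
        simp
    have hunit : IsUnit (fromBlocks (1 : Matrix Unit Unit F) 0 0 (Matrix.J (Fin m) F)).det := by
      rw [det_fromBlocks_zero₂₁, det_one, one_mul]; exact Matrix.isUnit_det_J _ F
    have hle : 1 + (m + m) ≤ Fintype.card ι := by
      have hinj : Function.Injective Q.mulVecLin := by
        intro x y hxy
        have := congrArg (fun z => (Qᵀ * G) *ᵥ z) (show Q *ᵥ x = Q *ᵥ y from hxy)
        simp only [mulVec_mulVec, hQ] at this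
        exact Matrix.mulVec_injective_of_isUnit ((Matrix.isUnit_iff_isUnit_det _).mpr hunit) this
      have := LinearMap.finrank_le_finrank_of_injective hinj
      simpa using this
    have hge : Fintype.card ι ≤ 1 + (m + m) := by
      let f : (ι → F) →ₗ[F] F × (Fin m ⊕ Fin m → F) :=
        (mulVecLin (Matrix.of fun _ : Unit => v) |> (LinearMap.proj ()).comp).prod (Pᵀ * G').mulVecLin
      have hinj : Function.Injective f := by
        rw [← LinearMap.ker_eq_bot, Submodule.eq_bot_iff]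
        intro x hx
        rw [LinearMap.mem_ker] at hx
        have hx1 : v ⬝ᵥ x = 0 := congrArg Prod.fst hx
        have hx2' : (Pᵀ * G') *ᵥ x = 0 := congrArg Prod.snd hx
        rw [← mulVec_mulVec] at hx2'
        have hx2 := hmax x hx2'
        have : G *ᵥ x = 0 := by
          rw [hGG', add_mulVec, hx2, vecMulVec_mulVec, op_smul_eq_smul, hx1, zero_smul, zero_add]
        exact Matrix.mulVec_injective_of_isUnit ((Matrix.isUnit_iff_isUnit_det _).mpr hu)
          (this.trans (mulVec_zero G).symm)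
      have := LinearMap.finrank_le_finrank_of_injective hinj
      simpa using this
    exact ⟨m, by omega, rel_of_gram Q hQ hunit (by simp; omega)⟩

/-- All choices of the vector give congruent matrices. -/
theorem J₂_rel {m : ℕ} {u u' : Fin m ⊕ Fin m → F} (hu : u ≠ 0) (hu' : u' ≠ 0) : Rel (J₂ m u) (J₂ m u') := by
  classical
  obtain ⟨g, hg⟩ := SympTransvection.transitive hu hu'
  have hgm : g.1 * Matrix.J (Fin m) F * g.1ᵀ = Matrix.J (Fin m) F := SymplecticGroup.mem_iff.mp g.2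
  have hd : IsUnit g.1ᵀ.det := by rw [det_transpose, SymplecticGroup.det_eq_one g.2]; exact isUnit_one
  refine ⟨g.1ᵀ, (g.1ᵀ)⁻¹, 1, mul_nonsing_inv _ hd, nonsing_inv_mul _ hd, ?_⟩
  rw [Units.val_one, one_smul, transpose_transpose, J₂, Matrix.mul_add, Matrix.add_mul, hgm, mul_vecMulVec,
    vecMulVec_mul, ← mulVec_transpose, transpose_transpose, hg]
  rfl

end forms

end CfsgLib.PSLnGraph
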