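import Cfsg.Agent.Lib.PSLnGraph.Forms
import Cfsg.Agent.Lib.PSLn.FieldClass

/-!
Involutory graph automorphisms of `PSL_n(q)`: correspondence with symmetric and alternating matrices.
-/

set_option autoImplicit false

namespace CfsgLib.PSLnGraph

open Matrix CfsgLib.PSLn
open scoped MatrixGroups

variable {F : Type*} [Field F] {n : ℕ}

local notation "PSL" => Matrix.ProjectiveSpecialLinearGroup (Fin n) F

/-- The graph automorphism attached to a matrix. -/
def γ (g : GL (Fin n) F) : MulAut (Matrix.ProjectiveSpecialLinearGroup (Fin n) F) := diagAut g * graphAut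

theorem exists_γ {β : MulAut PSL} (h : Cfsg.IsGraphAutClassPSL β) : ∃ g, β = γ g := by
  obtain ⟨-, δ, ι, hδ, hι, rfl⟩ := h
  obtain ⟨g, rfl⟩ := eq_diagAut_of_isInnerDiagonal hδ
  exact ⟨g, by rw [eq_graphAut_of_isInvTranspose hι]; rfl⟩

theorem graphClass_γ (hn : 3 ≤ n) (g : GL (Fin n) F) : Cfsg.IsGraphAutClassPSL (γ g) := by
  refine ⟨hn, diagAut g, graphAut, ⟨g, fun s s' h => ?_⟩, fun s s' h => ?_, rfl⟩
  · show diagAut g (mk s) = mk s'
    rw [diagAut_mk]
    congr 1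
    exact Subtype.ext h.symm
  · show graphAut (mk s) = mk s'
    rw [graphAut_mk]
    congr 1
    exact Subtype.ext h.symm

/-- Transposition followed by inversion, as an automorphism. -/
def dualEquiv : GL (Fin n) F ≃* GL (Fin n) F where
  toFun := dualGL
  invFun := dualGL
  left_inv g := Units.ext (by rw [coe_dualGL]; show ((dualGL g)⁻¹).1ᵀ = g.1; exact transpose_transpose g.1)
  right_inv g := Units.ext (by rw [coe_dualGL]; show ((dualGL g)⁻¹).1ᵀ = g.1; exact transpose_transpose g.1)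
  map_mul' := map_mul dualGL

theorem conj_γ (k g : GL (Fin n) F) :
    diagAut k * γ g * (diagAut k)⁻¹ = γ (k * g * (dualGL k)⁻¹) := by
  rw [γ, γ, ← mul_assoc, mul_assoc (diagAut k * diagAut g), ← map_inv, graphAut_diag, ← mul_assoc,
    ← map_mul, ← map_mul, map_inv dualGL]

theorem val_conj (k g : GL (Fin n) F) : (k * g * (dualGL k)⁻¹).1 = k.1 * g.1 * k.1ᵀ := rfl

theorem γ_eq_iff (hn : 2 ≤ n) {g h : GL (Fin n) F} :
    γ g = γ h ↔ ∃ u : Fˣ, g.1 = (u : F) • h.1 := by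
  rw [γ, γ, mul_left_inj, diagAut_eq_iff hn]
  refine exists_congr fun u => ?_
  rw [Units.ext_iff, Units.val_mul, scalar_coe, Matrix.scalar_apply, ← Matrix.smul_one_eq_diagonal, smul_mul_assoc,
    Matrix.one_mul]

theorem sq_eq_one_iff (hn : 2 ≤ n) (g : GL (Fin n) F) :
    γ g * γ g = 1 ↔ g.1ᵀ = g.1 ∨ g.1ᵀ = -g.1 := by
  have h0 : γ g * γ g = diagAut (g * dualGL g) := by
    rw [γ, mul_assoc, ← mul_assoc graphAut, graphAut_diag, mul_assoc, graphAut_mul_self, mul_one, map_mul]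
  rw [h0, ← MonoidHom.mem_ker, ker_diagAut hn, GeneralLinearGroup.center_eq_range_scalar]
  constructor
  · rintro ⟨u, hu⟩
    have e : g.1 = (u : F) • g.1ᵀ := by
      have h1 : (g * dualGL g).1 * g.1ᵀ = g.1 := by
        rw [Units.val_mul, coe_dualGL, Matrix.mul_assoc, ← transpose_mul, Units.mul_inv, transpose_one,
          Matrix.mul_one]
      rw [← hu, scalar_coe, Matrix.scalar_apply, ← Matrix.smul_one_eq_diagonal, smul_mul_assoc,
        Matrix.one_mul] at h1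
      exact h1.symm
    obtain ⟨i, j, hij⟩ : ∃ i j, g.1 i j ≠ 0 := by
      by_contra hh
      push Not at hh
      have : Nonempty (Fin n) := ⟨⟨0, by omega⟩⟩
      exact g.ne_zero (Matrix.ext hh)
    have e1 := congrFun (congrFun e i) j
    have e2 := congrFun (congrFun e j) i
    simp only [Matrix.smul_apply, Matrix.transpose_apply, smul_eq_mul] at e1 e2
    rw [e2, ← mul_assoc] at e1
    rcases mul_self_eq_one_iff.mp ((mul_eq_right₀ hij).mp e1.symm) with h | h
    · left; rw [h, one_smul] at e; exact e.symm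
    · right; rw [h, neg_one_smul] at e; exact neg_eq_iff_eq_neg.mp e.symm
  · rintro (h | h)
    · refine ⟨1, Units.ext ?_⟩
      rw [scalar_coe, Units.val_mul, coe_dualGL, Units.val_one, map_one]
      conv_rhs => rw [← h]
      rw [← transpose_mul, Units.inv_mul, transpose_one]
    · refine ⟨-1, Units.ext ?_⟩
      rw [scalar_coe, Units.val_mul, coe_dualGL, show g.1 = -g.1ᵀ by rw [h, neg_neg], Matrix.neg_mul,
        ← transpose_mul, Units.inv_mul, transpose_one, Units.val_neg, Units.val_one, map_neg, map_one]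

theorem γ_ne_one (hn : 3 ≤ n) (g : GL (Fin n) F) : γ g ≠ 1 := by
  intro h
  have : (diagAut g : MulAut PSL) * fieldAut 1 = graphAut := by
    rw [map_one, mul_one]
    exact (mul_eq_one_iff_eq_inv.mp h).trans graphAut_inv
  exact ne_graphAut hn g 1 this

theorem orderOf_γ (hn : 3 ≤ n) (g : GL (Fin n) F) : orderOf (γ g) = 2 ↔ (g.1ᵀ = g.1 ∨ g.1ᵀ = -g.1) := by
  rw [← sq_eq_one_iff (by omega), orderOf_eq_iff (by omega : 0 < 2)]
  refine ⟨fun h => by rw [← pow_two]; exact h.1, fun h => ⟨by rw [pow_two]; exact h, fun m hm hm0 => ?_⟩⟩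
  obtain rfl : m = 1 := by omega
  rw [pow_one]
  exact γ_ne_one hn g

theorem conjUnder_iff (hn : 2 ≤ n) (g h : GL (Fin n) F) :
    Cfsg.IsConjUnder (Cfsg.inndiagPSL n F) (γ g) (γ h) ↔ Rel g.1 h.1 := by
  rw [inndiag_eq]
  constructor
  · rintro ⟨_, ⟨k, rfl⟩, e⟩
    rw [conj_γ, γ_eq_iff hn] at e
    obtain ⟨u, hu⟩ := e
    rw [val_conj] at hu
    refine ⟨k.1ᵀ, (k⁻¹).1ᵀ, u, ?_, ?_, ?_⟩
    · rw [← transpose_mul, Units.inv_mul, transpose_one]
    · rw [← transpose_mul, Units.mul_inv, transpose_one]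
    · rw [transpose_transpose, hu]
  · rintro ⟨P, P', u, hP, hP', e⟩
    let k : GL (Fin n) F := ⟨Pᵀ, P'ᵀ, by rw [← transpose_mul, hP', transpose_one],
      by rw [← transpose_mul, hP, transpose_one]⟩
    refine ⟨_, ⟨k, rfl⟩, ?_⟩
    rw [conj_γ, γ_eq_iff hn]
    exact ⟨u, by rw [val_conj, ← e]; simp [k]⟩

theorem commute_iff (hn : 2 ≤ n) (k g : GL (Fin n) F) :
    Commute (diagAut k) (γ g) ↔ ∃ c : Fˣ, k.1 * g.1 * k.1ᵀ = (c : F) • g.1 := by
  rw [commute_iff_eq, ← mul_inv_eq_iff_eq_mul, conj_γ, γ_eq_iff hn]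
  rfl

theorem dual_mem_iff (k g : GL (Fin n) F) :
    dualGL k ∈ SimGrp g.1 ↔ ∃ c : Fˣ, k.1 * g.1 * k.1ᵀ = (c : F) • g.1 := by
  rw [← inv_mem_iff, mem_simGrp]
  refine exists_congr fun c => ?_
  show k.1ᵀᵀ * g.1 * k.1ᵀ = _ ↔ _
  rw [transpose_transpose]

theorem centralizer_equiv (hn : 2 ≤ n) (g : GL (Fin n) F) :
    Nonempty (↥(Cfsg.inndiagPSL n F ⊓ Subgroup.centralizer {γ g}) ≃* Cfsg.projQuot (SimGrp g.1)) := by
  classical
  let H : Subgroup (GL (Fin n) F) := (SimGrp g.1).comap dualGL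
  let φ : ↥H →* MulAut PSL := (diagAut : GL (Fin n) F →* MulAut PSL).comp H.subtype
  have hr : φ.range = Cfsg.inndiagPSL n F ⊓ Subgroup.centralizer {γ g} := by
    apply le_antisymm
    · rintro _ ⟨⟨k, hk⟩, rfl⟩
      refine Subgroup.mem_inf.mpr ⟨by rw [inndiag_eq]; exact ⟨_, rfl⟩, ?_⟩
      rw [Subgroup.mem_centralizer_singleton_iff]
      exact ((commute_iff hn k g).mpr ((dual_mem_iff k g).mp hk)).eq
    · intro a ha
      obtain ⟨ha, hc⟩ := Subgroup.mem_inf.mp ha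
      rw [inndiag_eq] at ha
      obtain ⟨k, rfl⟩ := ha
      exact ⟨⟨k, (dual_mem_iff k g).mpr ((commute_iff hn k g).mp
        (Subgroup.mem_centralizer_singleton_iff.mp hc))⟩, rfl⟩
  have hk : φ.ker = (Cfsg.Geo.scalars (Fin n) F).subgroupOf H := by
    rw [← MonoidHom.comap_ker, ker_diagAut hn, GeneralLinearGroup.center_eq_range_scalar]
    rfl
  obtain ⟨e⟩ := proj_congr (dualEquiv (n := n) (F := F)) (fun k => by
      show dualGL k ∈ _ ↔ _
      rw [Cfsg.Geo.mem_scalars_iff, Cfsg.Geo.mem_scalars_iff]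
      constructor
      · rintro ⟨c, hc⟩
        refine ⟨c⁻¹, ?_⟩
        have h1 : (k⁻¹).1 = (c : F) • 1 := by
          rw [← transpose_transpose (k⁻¹).1, ← coe_dualGL, hc, transpose_smul, transpose_one]
        calc k.1 = (c⁻¹ : Fˣ).1 • (k.1 * ((c : F) • (1 : Matrix (Fin n) (Fin n) F))) := by
              rw [Matrix.mul_smul, Matrix.mul_one, smul_smul, Units.inv_mul, one_smul]
          _ = _ := by rw [← h1, Units.mul_inv]
      · rintro ⟨c, hc⟩
        refine ⟨c⁻¹, ?_⟩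
        have h1 : (k⁻¹).1 = (c⁻¹ : Fˣ).1 • 1 := by
          calc (k⁻¹).1 = (c⁻¹ : Fˣ).1 • ((k⁻¹).1 * ((c : F) • (1 : Matrix (Fin n) (Fin n) F))) := by
                rw [Matrix.mul_smul, Matrix.mul_one, smul_smul, Units.inv_mul, one_smul]
            _ = _ := by rw [← hc, Units.inv_mul]
        rw [coe_dualGL, h1, transpose_smul, transpose_one]) H (SimGrp g.1) fun k => Iff.rfl
  exact ⟨(((MulEquiv.subgroupCongr hr).symm.trans
    (QuotientGroup.quotientKerEquivRange _).symm).trans (QuotientGroup.quotientMulEquivOfEq hk)).trans e⟩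

/-- The number of `PSL`-classes in the class of a graph automorphism. -/
theorem splitCount (hn : 2 ≤ n) [Fintype F] (g : GL (Fin n) F) (S : Subgroup Fˣ)
    (h1 : ∀ k : GL (Fin n) F, (∃ c : Fˣ, k.1 * g.1 * k.1ᵀ = (c : F) • g.1) →
      GeneralLinearGroup.det k ∈ (powMonoidHom n : Fˣ →* Fˣ).range ⊔ S)
    (h2 : ∀ u ∈ S, ∃ k : GL (Fin n) F, (∃ c : Fˣ, k.1 * g.1 * k.1ᵀ = (c : F) • g.1) ∧
      GeneralLinearGroup.det k = u) :
    Cfsg.splitClassCount (Cfsg.inndiagPSL n F) (Cfsg.Inn PSL) (γ g) = Nat.gcd n S.index :=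
  splitCount_eq_gcd hn (γ g) S (fun k hk => h1 k ((commute_iff hn k g).mp hk)) fun u hu => by
    obtain ⟨k, hk, hd⟩ := h2 u hu
    exact ⟨k, (commute_iff hn k g).mpr hk, hd⟩

end CfsgLib.PSLnGraph
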