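import Cfsg.Agent.Lib.PSLnGraph.Forms
import Cfsg.Agent.Lib.FiniteForms.Standard
import Cfsg.Agent.Lib.OrthOrderBase
import Cfsg.Agent.Lib.SympGen
import Cfsg.Agent.S0245
import Cfsg.Agent.S0304

/-!
The standard models of the centralizers of involutory graph automorphisms.
-/

set_option autoImplicit false
set_option linter.unusedSectionVars false

namespace CfsgLib.PSLnGraph

open Matrix

variable {F : Type*} [Field F]

theorem sq_inj (h2 : (2 : F) = 0) {a b : F} (h : a * a = b * b) : a = b := by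
  haveI : CharP F 2 := CharTwo.of_one_ne_zero_of_two_eq_zero one_ne_zero h2
  exact CharTwo.sq_injective (by simpa [pow_two] using h)

section general

variable {ι : Type} [Fintype ι] [DecidableEq ι]

theorem bilin_ext {M N : Matrix ι ι F} (h : ∀ u v, u ⬝ᵥ (M *ᵥ v) = u ⬝ᵥ (N *ᵥ v)) : M = N :=
  Matrix.ext fun i j => by simpa using h (Pi.single i 1) (Pi.single j 1)

theorem bilin_conj (k : Matrix ι ι F) (G : Matrix ι ι F) (u v : ι → F) :
    (k *ᵥ u) ⬝ᵥ (G *ᵥ (k *ᵥ v)) = u ⬝ᵥ ((kᵀ * G * k) *ᵥ v) := by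
  rw [Matrix.mul_assoc, ← mulVec_mulVec, dotProduct_mulVec u kᵀ, vecMul_transpose, mulVec_mulVec]

theorem quad_eq_simGrp (h2 : (2 : F) ≠ 0) (Q : (ι → F) → F) (G : Matrix ι ι F) (hG : Gᵀ = G)
    (hQ : ∀ v, 2 * Q v = v ⬝ᵥ (G *ᵥ v)) : Cfsg.Geo.quadSimilarityGroup (F := F) Q = SimGrp G := by
  have sw : ∀ (M : Matrix ι ι F), Mᵀ = M → ∀ u v : ι → F, u ⬝ᵥ (M *ᵥ v) = v ⬝ᵥ (M *ᵥ u) := fun M hM u v => by
    rw [dotProduct_mulVec, ← mulVec_transpose, hM, dotProduct_comm]
  ext k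
  refine exists_congr fun c => ?_
  constructor
  · intro h
    refine bilin_ext fun u v => ?_
    have key : ∀ w, w ⬝ᵥ ((k.1ᵀ * G * k.1) *ᵥ w) = w ⬝ᵥ (((c : F) • G) *ᵥ w) := fun w => by
      rw [← bilin_conj, ← hQ, h, smul_mulVec, dotProduct_smul, ← hQ, smul_eq_mul]; ring
    have h1 := key (u + v)
    have hs1 : (k.1ᵀ * G * k.1)ᵀ = k.1ᵀ * G * k.1 := by
      rw [transpose_mul, transpose_mul, transpose_transpose, hG, Matrix.mul_assoc]
    have hs2 : ((c : F) • G)ᵀ = (c : F) • G := by rw [transpose_smul, hG]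
    simp only [mulVec_add, dotProduct_add, add_dotProduct] at h1
    rw [sw _ hs1 v u, sw _ hs2 v u, key u, key v] at h1
    apply mul_left_cancel₀ h2
    linear_combination h1
  · intro h v
    apply mul_left_cancel₀ h2
    rw [hQ, bilin_conj, h, smul_mulVec, dotProduct_smul, smul_eq_mul, ← hQ]
    ring

/-- The isometry group of a bilinear form. -/
def IsoGrp (G : Matrix ι ι F) : Subgroup (GL ι F) where
  carrier := {k | k.1ᵀ * G * k.1 = G}
  one_mem' := by simp
  mul_mem' {a b} ha hb := by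
    show (a * b).1ᵀ * G * (a * b).1 = G
    calc (a * b).1ᵀ * G * (a * b).1 = b.1ᵀ * (a.1ᵀ * G * a.1) * b.1 := by
          simp only [Units.val_mul, transpose_mul, Matrix.mul_assoc]
      _ = _ := by rw [show a.1ᵀ * G * a.1 = G from ha]; exact hb
  inv_mem' {a} ha := by
    show (a⁻¹).1ᵀ * G * (a⁻¹).1 = G
    calc (a⁻¹).1ᵀ * G * (a⁻¹).1 = (a⁻¹).1ᵀ * (a.1ᵀ * G * a.1) * (a⁻¹).1 := by rw [show a.1ᵀ * G * a.1 = G from ha]
      _ = _ := by
        rw [Matrix.mul_assoc a.1ᵀ, ← Matrix.mul_assoc, ← transpose_mul, Units.mul_inv, transpose_one,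
          Matrix.one_mul, Matrix.mul_assoc, Units.mul_inv, Matrix.mul_one]

/-- A scalar matrix. -/
abbrev sc (d : Fˣ) : GL ι F := Units.map (Matrix.scalar ι : F →+* Matrix ι ι F).toMonoidHom d

theorem sc_val (d : Fˣ) : (sc (ι := ι) d).1 = (d : F) • (1 : Matrix ι ι F) := by
  show Matrix.scalar ι (d : F) = _
  rw [Matrix.scalar_apply, Matrix.smul_one_eq_diagonal]

/-- In characteristic two the projective similarity group is the isometry group. -/
theorem proj_iso_two [Finite F] [Nonempty ι] (h2 : (2 : F) = 0) (S I : Subgroup (GL ι F)) (hIS : I ≤ S)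
    (hsc : Cfsg.Geo.scalars ι F ≤ S) (hdec : ∀ k ∈ S, ∃ (d : Fˣ) (x : GL ι F), x ∈ I ∧ k = sc d * x)
    (hone : ∀ d : Fˣ, sc d ∈ I → (d : F) ^ 2 = 1) : Nonempty (↥I ≃* Cfsg.projQuot S) := by
  haveI : CharP F 2 := CharTwo.of_one_ne_zero_of_two_eq_zero one_ne_zero h2
  let f : ↥I →* Cfsg.projQuot S := (QuotientGroup.mk' _).comp (Subgroup.inclusion hIS)
  refine ⟨MulEquiv.ofBijective f ⟨?_, ?_⟩⟩
  · rw [← MonoidHom.ker_eq_bot_iff, Subgroup.eq_bot_iff_forall]
    rintro ⟨x, hx⟩ h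
    rw [MonoidHom.mem_ker] at h
    have h' : x ∈ Cfsg.Geo.scalars ι F := Subgroup.mem_subgroupOf.mp ((QuotientGroup.eq_one_iff _).mp h)
    obtain ⟨d, rfl⟩ := h'
    obtain rfl : d = 1 := Units.ext (sq_inj h2 (by rw [Units.val_one, one_mul, ← pow_two]; exact hone d hx))
    exact Subtype.ext (map_one _)
  · rintro ⟨⟨k, hk⟩⟩
    obtain ⟨d, x, hx, rfl⟩ := hdec k hk
    refine ⟨⟨x, hx⟩, (QuotientGroup.eq).mpr ?_⟩
    rw [Subgroup.mem_subgroupOf]
    show x⁻¹ * (sc d * x) ∈ Cfsg.Geo.scalars ι F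
    have : sc d * x = x * sc d := Units.ext (by
      rw [Units.val_mul, Units.val_mul, sc_val, Matrix.smul_mul, Matrix.mul_smul, Matrix.one_mul, Matrix.mul_one])
    rw [this, inv_mul_cancel_left]
    exact ⟨d, rfl⟩

theorem sc_mem_simGrp (G : Matrix ι ι F) : Cfsg.Geo.scalars ι F ≤ SimGrp G := by
  rintro _ ⟨d, rfl⟩
  exact ⟨d * d, by
    show (sc d).1ᵀ * G * (sc d).1 = _
    rw [sc_val, transpose_smul, transpose_one, Matrix.smul_mul, Matrix.one_mul, Matrix.mul_smul, Matrix.mul_one,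
      smul_smul, Units.val_mul]⟩

/-- In characteristic two the projective similarity group of a bilinear form is its isometry group. -/
theorem simGrp_iso_two [Finite F] [Nonempty ι] (h2 : (2 : F) = 0) (G : Matrix ι ι F) (hG : G ≠ 0) :
    Nonempty (↥(IsoGrp G) ≃* Cfsg.projQuot (SimGrp G)) := by
  refine proj_iso_two h2 _ _ (fun k hk => ⟨1, by rw [Units.val_one, one_smul]; exact hk⟩) (sc_mem_simGrp G) ?_ ?_
  · rintro k ⟨c, hc⟩
    obtain ⟨t, ht⟩ := sq_surj h2 (c : F)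
    have ht0 : t ≠ 0 := by rintro rfl; exact c.ne_zero (by rw [ht, mul_zero])
    refine ⟨Units.mk0 t ht0, sc (Units.mk0 t ht0)⁻¹ * k, ?_, ?_⟩
    · show (sc (Units.mk0 t ht0)⁻¹ * k).1ᵀ * G * (sc (Units.mk0 t ht0)⁻¹ * k).1 = G
      rw [Units.val_mul, sc_val, Matrix.smul_mul, Matrix.one_mul, transpose_smul, Matrix.smul_mul, Matrix.smul_mul,
        Matrix.mul_smul, hc, smul_smul, smul_smul, Units.val_inv_eq_inv_val, Units.val_mk0, ht]
      rw [show t⁻¹ * t⁻¹ * (t * t) = 1 by field_simp, one_smul]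
    · rw [← mul_assoc, ← map_mul, mul_inv_cancel, map_one, one_mul]
  · intro d hd
    change (sc d).1ᵀ * G * (sc d).1 = G at hd
    rw [sc_val, transpose_smul, transpose_one, Matrix.smul_mul, Matrix.one_mul, Matrix.mul_smul, Matrix.mul_one,
      smul_smul] at hd
    obtain ⟨i, j, hij⟩ : ∃ i j, G i j ≠ 0 := by
      by_contra hh
      push Not at hh
      exact hG (Matrix.ext hh)
    have := congrFun (congrFun hd i) j
    rw [Matrix.smul_apply, smul_eq_mul] at this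
    rw [pow_two]
    exact mul_right_cancel₀ hij (this.trans (one_mul _).symm)

/-- The order of a projective similarity group. -/
theorem card_simGrp_le [Fintype F] [Nonempty ι] (G : Matrix ι ι F) :
    Nat.card ↥(SimGrp G) ≤ Nat.card Fˣ * Nat.card ↥(IsoGrp G) := by
  classical
  choose c hc using fun k : ↥(SimGrp G) => k.2
  choose sec hsec using fun x : {c : Fˣ // ∃ k : GL ι F, k.1ᵀ * G * k.1 = (c : F) • G} => x.2
  have hinv : ∀ (S : GL ι F) (d : Fˣ), S.1ᵀ * G * S.1 = (d : F) • G →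
      (S⁻¹).1ᵀ * G * (S⁻¹).1 = (d⁻¹ : Fˣ).1 • G := fun S d h => by
    have e : (S⁻¹).1ᵀ * (S.1ᵀ * G * S.1) * (S⁻¹).1 = G := by
      rw [Matrix.mul_assoc S.1ᵀ, ← Matrix.mul_assoc, ← transpose_mul, Units.mul_inv, transpose_one,
        Matrix.one_mul, Matrix.mul_assoc, Units.mul_inv, Matrix.mul_one]
    rw [h, Matrix.mul_smul, Matrix.smul_mul] at e
    calc _ = (d⁻¹ : Fˣ).1 • ((d : F) • ((S⁻¹).1ᵀ * G * (S⁻¹).1)) := by rw [smul_smul, Units.inv_mul, one_smul]
      _ = _ := by rw [e]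
  let f : ↥(SimGrp G) → Fˣ × ↥(IsoGrp G) := fun k =>
    (c k, ⟨(sec ⟨c k, k.1, hc k⟩)⁻¹ * k.1, by
      show _ᵀ * G * _ = G
      have hsi : ((sec ⟨c k, k.1, hc k⟩)⁻¹).1ᵀ * G * ((sec ⟨c k, k.1, hc k⟩)⁻¹).1 = ((c k)⁻¹ : Fˣ).1 • G :=
        hinv _ _ (hsec ⟨c k, k.1, hc k⟩)
      calc _ = k.1.1ᵀ * (((sec ⟨c k, k.1, hc k⟩)⁻¹).1ᵀ * G * ((sec ⟨c k, k.1, hc k⟩)⁻¹).1) * k.1.1 := by
            simp only [Units.val_mul, transpose_mul, Matrix.mul_assoc]
        _ = _ := by rw [hsi, Matrix.mul_smul, Matrix.smul_mul, hc k, smul_smul, Units.inv_mul, one_smul]⟩)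
  have hf : Function.Injective f := fun a b h => by
    obtain ⟨h1, h2⟩ := Prod.mk.inj h
    have h3 : (sec ⟨c a, a.1, hc a⟩)⁻¹ * a.1 = (sec ⟨c b, b.1, hc b⟩)⁻¹ * b.1 := congrArg Subtype.val h2
    have e : (⟨c a, a.1, hc a⟩ : {c : Fˣ // ∃ k : GL ι F, k.1ᵀ * G * k.1 = (c : F) • G}) = ⟨c b, b.1, hc b⟩ :=
      Subtype.ext h1
    rw [e] at h3
    exact Subtype.ext (mul_left_cancel h3)
  exact (Nat.card_le_card_of_injective f hf).trans (le_of_eq (Nat.card_prod _ _))

theorem card_proj (G : Matrix ι ι F) :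
    Nat.card (Cfsg.projQuot (SimGrp G)) * Nat.card ↥(Cfsg.Geo.scalars ι F) = Nat.card ↥(SimGrp G) := by
  rw [← Nat.card_congr (Subgroup.subgroupOfEquivOfLe (sc_mem_simGrp G)).toEquiv]
  exact (Subgroup.card_eq_card_quotient_mul_card_subgroup _).symm

theorem card_scalars [Nonempty ι] : Nat.card ↥(Cfsg.Geo.scalars ι F) = Nat.card Fˣ := by
  refine (Nat.card_congr (MonoidHom.ofInjective (f := Units.map (Matrix.scalar ι : F →+* Matrix ι ι F).toMonoidHom)
    ?_).toEquiv).symm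
  intro a b h
  exact Units.ext (Matrix.scalar_inj.mp (congrArg Units.val h))

end general

theorem gsp_eq (m : ℕ) : Cfsg.GSp m F = SimGrp (Matrix.J (Fin m) F) := by
  ext k
  refine exists_congr fun c => ?_
  constructor
  · intro h
    refine bilin_ext fun u v => ?_
    have := h u v
    simp only [Cfsg.sympForm] at this
    rw [bilin_conj] at this
    rw [this, smul_mulVec, dotProduct_smul, smul_eq_mul]
  · intro h u v
    simp only [Cfsg.sympForm]
    rw [bilin_conj, h, smul_mulVec, dotProduct_smul, smul_eq_mul]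

theorem plus_sim (h2 : (2 : F) ≠ 0) (m : ℕ) :
    Cfsg.Geo.quadSimilarityGroup (F := F) (Cfsg.quadFormPlus m F) = SimGrp (FiniteForms.hypMat F m) :=
  quad_eq_simGrp h2 _ _ (FiniteForms.hypMat_isSymm m) fun v => by
    rw [← FiniteForms.polar_plus]
    simp only [QuadraticMap.polar, Cfsg.quadFormPlus, Pi.add_apply, Finset.mul_sum, ← Finset.sum_sub_distrib]
    exact Finset.sum_congr rfl fun i _ => by ring

theorem ellMat_symm (m : ℕ) (a b : F) : (FiniteForms.ellMat m a b)ᵀ = FiniteForms.ellMat m a b := by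
  rw [FiniteForms.ellMat, fromBlocks_transpose, (FiniteForms.hypMat_isSymm m).eq, transpose_zero, transpose_zero]
  congr 1
  ext i j
  fin_cases i <;> fin_cases j <;> rfl

theorem minus_sim (h2 : (2 : F) ≠ 0) (m : ℕ) (a b : F) :
    Cfsg.Geo.quadSimilarityGroup (F := F) (Cfsg.quadFormMinus m F a b) = SimGrp (FiniteForms.ellMat m a b) :=
  quad_eq_simGrp h2 _ _ (ellMat_symm m a b) fun v => by
    rw [← FiniteForms.polar_minus]
    simp only [QuadraticMap.polar, Cfsg.quadFormMinus, Pi.add_apply]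
    have e : (∑ i : Fin m, (v (Sum.inl (Sum.inl i)) + v (Sum.inl (Sum.inl i))) *
        (v (Sum.inl (Sum.inr i)) + v (Sum.inl (Sum.inr i)))) =
        4 * ∑ i : Fin m, v (Sum.inl (Sum.inl i)) * v (Sum.inl (Sum.inr i)) := by
      rw [Finset.mul_sum]; exact Finset.sum_congr rfl fun i _ => by ring
    rw [e]; ring

/-- The polar matrix of the odd-dimensional form. -/
def oddMat (F : Type*) [Field F] (m : ℕ) : Matrix (Unit ⊕ (Fin m ⊕ Fin m)) (Unit ⊕ (Fin m ⊕ Fin m)) F :=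
  fromBlocks ((2 : F) • 1) 0 0 (FiniteForms.hypMat F m)

theorem oddMat_symm (m : ℕ) : (oddMat F m)ᵀ = oddMat F m := by
  rw [oddMat, fromBlocks_transpose, (FiniteForms.hypMat_isSymm m).eq, transpose_smul, transpose_one, transpose_zero,
    transpose_zero]

theorem det_oddMat (m : ℕ) : (oddMat F m).det = 2 * (-1) ^ m := by
  rw [oddMat, det_fromBlocks_zero₂₁, FiniteForms.det_hypMat, det_smul]
  simp

theorem odd_sim (h2 : (2 : F) ≠ 0) (m : ℕ) :
    Cfsg.Geo.quadSimilarityGroup (F := F) (Cfsg.quadFormOdd m F) = SimGrp (oddMat F m) :=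
  quad_eq_simGrp h2 _ _ (oddMat_symm m) fun v => by
    have h := FiniteForms.polar_plus m (v ∘ Sum.inr) (v ∘ Sum.inr)
    rw [oddMat, fromBlocks_mulVec, zero_mulVec, zero_mulVec, add_zero, zero_add, smul_mulVec, one_mulVec, dotProduct,
      Fintype.sum_sum_type]
    simp only [Sum.elim_inl, Sum.elim_inr]
    rw [show (∑ x, v (Sum.inr x) * (FiniteForms.hypMat F m *ᵥ (v ∘ Sum.inr)) x) =
      (v ∘ Sum.inr) ⬝ᵥ (FiniteForms.hypMat F m *ᵥ (v ∘ Sum.inr)) from rfl, ← h]
    simp only [QuadraticMap.polar, Cfsg.quadFormOdd, Cfsg.quadFormPlus, Pi.add_apply, Function.comp_apply,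
      Fintype.sum_unique, Pi.smul_apply, smul_eq_mul, Unique.eq_default]
    have e : (∑ i : Fin m, (v (Sum.inr (Sum.inl i)) + v (Sum.inr (Sum.inl i))) *
        (v (Sum.inr (Sum.inr i)) + v (Sum.inr (Sum.inr i)))) =
        4 * ∑ i : Fin m, v (Sum.inr (Sum.inl i)) * v (Sum.inr (Sum.inr i)) := by
      rw [Finset.mul_sum]; exact Finset.sum_congr rfl fun i _ => by ring
    rw [e]; ring

theorem card_isoGrp_eq (h2 : (2 : F) ≠ 0) {ι : Type} [Fintype ι] [DecidableEq ι] (Q : (ι → F) → F)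
    (G : Matrix ι ι F) (hG : Gᵀ = G) (hQ : ∀ v, 2 * Q v = v ⬝ᵥ (G *ᵥ v)) :
    IsoGrp G = Cfsg.isometryGroup F Q := by
  have sw : ∀ (M : Matrix ι ι F), Mᵀ = M → ∀ u v : ι → F, u ⬝ᵥ (M *ᵥ v) = v ⬝ᵥ (M *ᵥ u) := fun M hM u v => by
    rw [dotProduct_mulVec, ← mulVec_transpose, hM, dotProduct_comm]
  ext k
  constructor
  · intro h u _
    show Q (k.1 *ᵥ u) = Q u
    apply mul_left_cancel₀ h2
    rw [hQ, bilin_conj, show k.1ᵀ * G * k.1 = G from h, ← hQ]
  · intro h
    refine bilin_ext fun u v => ?_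
    have key : ∀ w, w ⬝ᵥ ((k.1ᵀ * G * k.1) *ᵥ w) = w ⬝ᵥ (G *ᵥ w) := fun w => by
      rw [← bilin_conj, ← hQ, show Q (k.1 *ᵥ w) = Q w from h w w, hQ]
    have h1 := key (u + v)
    have hs1 : (k.1ᵀ * G * k.1)ᵀ = k.1ᵀ * G * k.1 := by
      rw [transpose_mul, transpose_mul, transpose_transpose, hG, Matrix.mul_assoc]
    simp only [mulVec_add, dotProduct_add, add_dotProduct] at h1
    rw [sw _ hs1 v u, sw _ hG v u, key u, key v] at h1
    apply mul_left_cancel₀ h2
    linear_combination h1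

/-- The symplectic group as an isometry group. -/
theorem isoGrp_J (m : ℕ) : Nonempty (↥(IsoGrp (Matrix.J (Fin m) F)) ≃* ↥(Matrix.symplecticGroup (Fin m) F)) := by
  let f : ↥(IsoGrp (Matrix.J (Fin m) F)) →* ↥(Matrix.symplecticGroup (Fin m) F) :=
    { toFun := fun k => ⟨k.1.1, SymplecticGroup.mem_iff'.mpr k.2⟩
      map_one' := rfl
      map_mul' := fun a b => rfl }
  refine ⟨MulEquiv.ofBijective f ⟨fun a b h => Subtype.ext (Units.ext (congrArg Subtype.val h)), fun x => ?_⟩⟩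
  refine ⟨⟨Matrix.GeneralLinearGroup.mkOfDetNeZero x.1 (by rw [SymplecticGroup.det_eq_one x.2]; exact one_ne_zero),
    SymplecticGroup.mem_iff'.mp x.2⟩, rfl⟩

theorem pgsp_two [Finite F] (h2 : (2 : F) = 0) {m : ℕ} (hm : 1 ≤ m) :
    Nonempty (Cfsg.projQuot (SimGrp (Matrix.J (Fin m) F)) ≃* ↥(Matrix.symplecticGroup (Fin m) F)) := by
  haveI : Nonempty (Fin m ⊕ Fin m) := ⟨Sum.inl ⟨0, hm⟩⟩
  have hJ : Matrix.J (Fin m) F ≠ 0 := fun h => (Matrix.isUnit_det_J (Fin m) F).ne_zero (by rw [h, det_zero])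
  obtain ⟨e⟩ := simGrp_iso_two h2 _ hJ
  obtain ⟨e'⟩ := isoGrp_J (F := F) m
  exact ⟨e.symm.trans e'⟩

theorem odd_two [Finite F] (h2 : (2 : F) = 0) (m : ℕ) :
    Nonempty (Cfsg.projQuot (SimGrp (fromBlocks (1 : Matrix Unit Unit F) 0 0 (Matrix.J (Fin m) F))) ≃*
      ↥(Matrix.symplecticGroup (Fin m) F)) := by
  haveI : CharP F 2 := CharTwo.of_one_ne_zero_of_two_eq_zero one_ne_zero h2
  set G := fromBlocks (1 : Matrix Unit Unit F) 0 0 (Matrix.J (Fin m) F) with hG
  have hG0 : G ≠ 0 := fun h => by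
    have := congrFun (congrFun h (Sum.inl ())) (Sum.inl ())
    simp [hG] at this
  obtain ⟨e⟩ := simGrp_iso_two h2 G hG0
  have hblock : ∀ k : GL (Unit ⊕ (Fin m ⊕ Fin m)) F, k ∈ IsoGrp G →
      k.1.toBlocks₁₁ = 1 ∧ k.1.toBlocks₁₂ = 0 ∧ k.1.toBlocks₂₁ = 0 ∧
        (k.1.toBlocks₂₂)ᵀ * Matrix.J (Fin m) F * k.1.toBlocks₂₂ = Matrix.J (Fin m) F := by
    intro k hk
    have hk' : k.1ᵀ * G * k.1 = G := hk
    rw [← fromBlocks_toBlocks k.1, hG, fromBlocks_transpose, fromBlocks_multiply, fromBlocks_multiply,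
      fromBlocks_inj] at hk'
    obtain ⟨h11, h12, -, h22⟩ := hk'
    simp only [Matrix.mul_zero, Matrix.mul_one, add_zero, zero_add] at h11 h12 h22
    set a := k.1.toBlocks₁₁
    set b := k.1.toBlocks₁₂
    set c := k.1.toBlocks₂₁
    set d := k.1.toBlocks₂₂
    have halt : ∀ {κ : Type} [Fintype κ] (M : Matrix (Fin m ⊕ Fin m) κ F) (x : κ),
        (Mᵀ * Matrix.J (Fin m) F * M) x x = 0 := fun M x => by
      rw [gram_apply]; exact SympTransvection.dot_J_self _
    have hb : b = 0 := by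
      ext u j
      have h := congrFun (congrFun h22 j) j
      rw [Matrix.add_apply, halt, add_zero, Matrix.mul_apply, Fintype.sum_unique] at h
      have hJ : Matrix.J (Fin m) F j j = 0 := by
        have := SympTransvection.dot_J_self (F := F) (Pi.single j 1)
        simpa using this
      rw [hJ, Matrix.transpose_apply] at h
      rw [Subsingleton.elim u default]
      exact mul_self_eq_zero.mp h
    have ha : a = 1 := by
      ext u u'
      have h := congrFun (congrFun h11 u) u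
      rw [Matrix.add_apply, halt, add_zero, Matrix.mul_apply, Fintype.sum_unique, Matrix.transpose_apply] at h
      rw [Subsingleton.elim u' u]
      rw [Subsingleton.elim u default] at h ⊢
      rw [Matrix.one_apply_eq] at h ⊢
      exact sq_inj h2 (by rw [h, one_mul])
    rw [hb] at h12 h22
    simp only [Matrix.mul_zero, Matrix.transpose_zero, Matrix.zero_mul, zero_add] at h12 h22
    have hd : IsUnit d.det := by
      have := congrArg Matrix.det h22
      rw [det_mul, det_mul, det_transpose] at this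
      rw [isUnit_iff_ne_zero]
      intro h0
      rw [h0, mul_zero] at this
      exact (Matrix.isUnit_det_J (Fin m) F).ne_zero this.symm
    refine ⟨ha, hb, ?_, h22⟩
    have hcJ : cᵀ * Matrix.J (Fin m) F = 0 := by
      have := congrArg (· * d⁻¹) h12
      simpa [Matrix.mul_assoc, mul_nonsing_inv _ hd] using this
    have := congrArg (· * (Matrix.J (Fin m) F)⁻¹) hcJ
    simp only [Matrix.mul_assoc, mul_nonsing_inv _ (Matrix.isUnit_det_J (Fin m) F), Matrix.mul_one,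
      Matrix.zero_mul] at this
    exact transpose_eq_zero.mp this
  let f : ↥(IsoGrp G) →* ↥(Matrix.symplecticGroup (Fin m) F) :=
    { toFun := fun k => ⟨k.1.1.toBlocks₂₂, SymplecticGroup.mem_iff'.mpr (hblock k.1 k.2).2.2.2⟩
      map_one' := Subtype.ext (by
        show (1 : Matrix (Unit ⊕ (Fin m ⊕ Fin m)) (Unit ⊕ (Fin m ⊕ Fin m)) F).toBlocks₂₂ = 1
        rw [← fromBlocks_one, toBlocks_fromBlocks₂₂])
      map_mul' := fun a b => Subtype.ext (by
        show (a.1.1 * b.1.1).toBlocks₂₂ = a.1.1.toBlocks₂₂ * b.1.1.toBlocks₂₂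
        conv_lhs => rw [← fromBlocks_toBlocks a.1.1, ← fromBlocks_toBlocks b.1.1, fromBlocks_multiply,
          toBlocks_fromBlocks₂₂, (hblock a.1 a.2).2.2.1]
        rw [Matrix.zero_mul, zero_add]) }
  refine ⟨e.symm.trans (MulEquiv.ofBijective f ⟨?_, ?_⟩)⟩
  · intro x y h
    apply Subtype.ext
    apply Units.ext
    obtain ⟨x1, x2, x3, -⟩ := hblock x.1 x.2
    obtain ⟨y1, y2, y3, -⟩ := hblock y.1 y.2
    rw [← fromBlocks_toBlocks x.1.1, ← fromBlocks_toBlocks y.1.1, x1, x2, x3, y1, y2, y3,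
      show x.1.1.toBlocks₂₂ = y.1.1.toBlocks₂₂ from congrArg Subtype.val h]
  · intro s
    have hd : (fromBlocks (1 : Matrix Unit Unit F) 0 0 s.1).det ≠ 0 := by
      rw [det_fromBlocks_zero₂₁, det_one, SymplecticGroup.det_eq_one s.2, one_mul]; exact one_ne_zero
    refine ⟨⟨Matrix.GeneralLinearGroup.mkOfDetNeZero _ hd, ?_⟩, Subtype.ext (toBlocks_fromBlocks₂₂ _ _ _ _)⟩
    show (fromBlocks (1 : Matrix Unit Unit F) 0 0 s.1)ᵀ * G * fromBlocks 1 0 0 s.1 = G
    rw [hG, fromBlocks_transpose, fromBlocks_multiply, fromBlocks_multiply]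
    simp [SymplecticGroup.mem_iff'.mp s.2]

theorem pgo_odd_two [Fintype F] [CharP F 2] (m : ℕ) :
    Nonempty (Cfsg.PGO F (Cfsg.quadFormOdd m F) ≃* ↥(Matrix.symplecticGroup (Fin m) F)) := by
  obtain ⟨e⟩ := Cfsg.Agent.S0304.result (F := F) m
  have hscale : ∀ (t : F) (v : Unit ⊕ (Fin m ⊕ Fin m) → F),
      Cfsg.quadFormOdd m F (t • v) = t ^ 2 * Cfsg.quadFormOdd m F v := fun t v => by
    simp only [Cfsg.quadFormOdd, Pi.smul_apply, smul_eq_mul, mul_add, Finset.mul_sum]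
    congr 1
    · ring
    · exact Finset.sum_congr rfl fun i _ => by ring
  obtain ⟨e'⟩ := proj_iso_two (F := F) (CharTwo.two_eq_zero) (Cfsg.Geo.quadSimilarityGroup (F := F)
      (Cfsg.quadFormOdd m F)) (Cfsg.isometryGroup F (Cfsg.quadFormOdd m F))
    (fun k hk => ⟨1, fun v => by rw [Units.val_one, one_mul]; exact hk v v⟩)
    (by
      rintro _ ⟨d, rfl⟩
      exact ⟨d * d, fun v => by
        show Cfsg.quadFormOdd m F ((sc d).1 *ᵥ v) = _
        rw [sc_val, smul_mulVec, one_mulVec, hscale, Units.val_mul, pow_two]⟩)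
    (by
      rintro k ⟨c, hc⟩
      obtain ⟨t, ht⟩ := sq_surj (CharTwo.two_eq_zero (R := F)) (c : F)
      have ht0 : t ≠ 0 := by rintro rfl; exact c.ne_zero (by rw [ht, mul_zero])
      refine ⟨Units.mk0 t ht0, sc (Units.mk0 t ht0)⁻¹ * k, fun v _ => ?_, ?_⟩
      · show Cfsg.quadFormOdd m F ((sc (Units.mk0 t ht0)⁻¹ * k).1 *ᵥ v) = Cfsg.quadFormOdd m F v
        rw [Units.val_mul, ← mulVec_mulVec, sc_val, smul_mulVec, one_mulVec, hscale, hc, Units.val_inv_eq_inv_val,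
          Units.val_mk0, ← mul_assoc, ht, show t⁻¹ ^ 2 * (t * t) = 1 by field_simp, one_mul]
      · rw [← mul_assoc, ← map_mul, mul_inv_cancel, map_one, one_mul])
    (fun d hd => by
      have h := hd (Pi.single (Sum.inl ()) 1) (Pi.single (Sum.inl ()) 1)
      change Cfsg.quadFormOdd m F ((sc d).1 *ᵥ _) = Cfsg.quadFormOdd m F _ at h
      rw [sc_val, smul_mulVec, one_mulVec, hscale] at h
      simpa [Cfsg.quadFormOdd] using h)
  exact ⟨e'.symm.trans e⟩

/-- The isometry group of the non-alternating form is a transvection centralizer. -/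
theorem centralizer_two [Finite F] (h2 : (2 : F) = 0) {m : ℕ} (v : Fin m ⊕ Fin m → F) (hv : v ≠ 0) :
    Nonempty (Cfsg.projQuot (SimGrp (J₂ m (Matrix.J (Fin m) F *ᵥ v))) ≃*
      ↥(Subgroup.centralizer ({SympTransvection.tv v 1} : Set ↥(Matrix.symplecticGroup (Fin m) F)))) := by
  haveI : CharP F 2 := CharTwo.of_one_ne_zero_of_two_eq_zero one_ne_zero h2
  set u := Matrix.J (Fin m) F *ᵥ v with hu
  have hu0 : u ≠ 0 := SympTransvection.J_mulVec_ne_zero hv
  haveI : Nonempty (Fin m ⊕ Fin m) := by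
    obtain ⟨i, -⟩ := Function.ne_iff.mp hv
    exact ⟨i⟩
  have hG0 : J₂ m u ≠ 0 := by
    intro h
    apply hu0
    funext i
    have := congrFun (congrFun h i) i
    have hJ : Matrix.J (Fin m) F i i = 0 := by
      simpa using SympTransvection.dot_J_self (F := F) (Pi.single i 1)
    simp only [J₂, Matrix.add_apply, hJ, zero_add, vecMulVec_apply, Matrix.zero_apply] at this
    exact mul_self_eq_zero.mp this
  obtain ⟨e⟩ := simGrp_iso_two h2 _ hG0
  have hJv : ∀ w : Fin m ⊕ Fin m → F, Matrix.J (Fin m) F *ᵥ (Matrix.J (Fin m) F *ᵥ w) = -w := fun w => by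
    rw [mulVec_mulVec, Matrix.J_squared, neg_mulVec, one_mulVec]
  have hsplit : ∀ k : Matrix (Fin m ⊕ Fin m) (Fin m ⊕ Fin m) F,
      kᵀ * J₂ m u * k = kᵀ * Matrix.J (Fin m) F * k + vecMulVec (kᵀ *ᵥ u) (kᵀ *ᵥ u) := fun k => by
    rw [J₂, Matrix.mul_add, Matrix.add_mul, mul_vecMulVec, vecMulVec_mul, ← mulVec_transpose]
  have key : ∀ k : GL (Fin m ⊕ Fin m) F, k ∈ IsoGrp (J₂ m u) ↔
      k.1ᵀ * Matrix.J (Fin m) F * k.1 = Matrix.J (Fin m) F ∧ k.1 *ᵥ v = v := by
    intro k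
    show k.1ᵀ * J₂ m u * k.1 = J₂ m u ↔ _
    rw [hsplit]
    constructor
    · intro h
      have hd : k.1ᵀ *ᵥ u = u := by
        funext i
        have := congrFun (congrFun h i) i
        have hJ : Matrix.J (Fin m) F i i = 0 := by
          simpa using SympTransvection.dot_J_self (F := F) (Pi.single i 1)
        simp only [J₂, Matrix.add_apply, hJ, gram_apply, SympTransvection.dot_J_self, zero_add,
          vecMulVec_apply] at this
        exact sq_inj h2 this
      have hJJ : k.1ᵀ * Matrix.J (Fin m) F * k.1 = Matrix.J (Fin m) F := by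
        rw [hd, J₂] at h
        exact add_right_cancel h
      refine ⟨hJJ, ?_⟩
      have h3 : k.1ᵀ *ᵥ (Matrix.J (Fin m) F *ᵥ (k.1 *ᵥ v)) = k.1ᵀ *ᵥ (Matrix.J (Fin m) F *ᵥ v) := by
        rw [mulVec_mulVec, mulVec_mulVec, hJJ, ← hu, hd]
      have hkT : IsUnit k.1ᵀ := (Matrix.isUnit_iff_isUnit_det _).mpr (by
        rw [det_transpose]; exact (Matrix.isUnit_iff_isUnit_det _).mp k.isUnit)
      have h4 := congrArg (fun w => Matrix.J (Fin m) F *ᵥ w) (Matrix.mulVec_injective_of_isUnit hkT h3)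
      simp only [hJv, neg_inj] at h4
      exact h4
    · rintro ⟨hJJ, hkv⟩
      have hd : k.1ᵀ *ᵥ u = u := by
        conv_lhs => rw [hu, ← hkv]
        rw [mulVec_mulVec, mulVec_mulVec, hJJ]
      rw [hd, hJJ, J₂]
  have htv : ∀ a b : Fin m ⊕ Fin m → F, b ≠ 0 → SympTransvection.tv a 1 = SympTransvection.tv b 1 → a = b := by
    intro a b hb h
    have h' : ∀ x, SympGen.B x a • a = SympGen.B x b • b := fun x => by
      have := congrArg (fun t : ↥(Matrix.symplecticGroup (Fin m) F) => t.1 *ᵥ x) h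
      simp only [SympGen.tv_apply, one_mul, add_right_inj] at this
      exact this
    obtain ⟨z, hz⟩ := SympTransvection.exists_dot_ne hb
    have hx : SympGen.B ((SympGen.B z b)⁻¹ • z) b = 1 := by
      rw [SympGen.B_smul_left]; exact inv_mul_cancel₀ hz
    have h1 := h' ((SympGen.B z b)⁻¹ • z)
    rw [hx, one_smul] at h1
    set l := SympGen.B ((SympGen.B z b)⁻¹ • z) a
    have h2' : l * l = 1 := by
      have e1 := congrArg (fun w => SympGen.B ((SympGen.B z b)⁻¹ • z) w) h1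
      simp only [SympGen.B_smul_right] at e1
      rw [hx] at e1
      exact e1
    have : l = 1 := sq_inj h2 (by rw [h2', one_mul])
    rwa [this, one_smul] at h1
  let f : ↥(IsoGrp (J₂ m u)) →*
      ↥(Subgroup.centralizer ({SympTransvection.tv v 1} : Set ↥(Matrix.symplecticGroup (Fin m) F))) :=
    { toFun := fun k => ⟨⟨k.1.1, SymplecticGroup.mem_iff'.mpr ((key k.1).mp k.2).1⟩,
        Subgroup.mem_centralizer_singleton_iff.mpr (by
          rw [← mul_inv_eq_iff_eq_mul, SympGen.conj_tv]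
          congr 1
          exact ((key k.1).mp k.2).2)⟩
      map_one' := rfl
      map_mul' := fun a b => rfl }
  refine ⟨e.symm.trans (MulEquiv.ofBijective f ⟨?_, ?_⟩)⟩
  · intro a b h
    exact Subtype.ext (Units.ext (congrArg (fun x => x.1.1) h))
  · rintro ⟨s, hs⟩
    refine ⟨⟨Matrix.GeneralLinearGroup.mkOfDetNeZero s.1 (by rw [SymplecticGroup.det_eq_one s.2]; exact one_ne_zero),
      (key _).mpr ⟨SymplecticGroup.mem_iff'.mp s.2, ?_⟩⟩, rfl⟩
    rw [Subgroup.mem_centralizer_singleton_iff, ← mul_inv_eq_iff_eq_mul, SympGen.conj_tv] at hs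
    exact htv _ _ hv hs

theorem tv_isTransvection {m : ℕ} (v : Fin m ⊕ Fin m → F) (hv : v ≠ 0) :
    Cfsg.IsTransvection (SympTransvection.tv v 1).1 := by
  have e : (SympTransvection.tv v 1).1 - 1 = vecMulVec v (Matrix.J (Fin m) F *ᵥ v) := by
    show Cfsg.sympTransvection m v 1 - 1 = _
    rw [Cfsg.sympTransvection, one_smul, add_sub_cancel_left]
  unfold Cfsg.IsTransvection
  rw [e]
  refine ⟨le_antisymm (rank_vecMulVec_le _ _) ?_, ?_⟩
  · rw [Nat.one_le_iff_ne_zero, Matrix.rank, Ne, Submodule.finrank_eq_zero, LinearMap.range_eq_bot]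
    intro h
    obtain ⟨z, hz⟩ := SympTransvection.exists_dot_ne hv
    have := LinearMap.congr_fun h z
    rw [mulVecLin_apply, vecMulVec_mulVec, op_smul_eq_smul, LinearMap.zero_apply, smul_eq_zero] at this
    exact this.elim (fun h' => hz (by rw [dotProduct_comm]; exact h')) hv
  · rw [vecMulVec_mul_vecMulVec, dotProduct_comm, SympTransvection.dot_J_self]
    simp

theorem card_arith {q m : ℕ} (hq : 3 ≤ q) (hm : 1 ≤ m) :
    2 * q ^ (m * (m - 1)) * (q ^ m + 1) * ∏ i ∈ Finset.range (m - 1), (q ^ (2 * (i + 1)) - 1) <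
      q ^ (m ^ 2) * ∏ i ∈ Finset.range m, (q ^ (2 * (i + 1)) - 1) := by
  obtain ⟨k, rfl⟩ : ∃ k, m = k + 1 := ⟨m - 1, by omega⟩
  rw [Nat.add_sub_cancel, Finset.prod_range_succ]
  have hP : 0 < ∏ i ∈ Finset.range k, (q ^ (2 * (i + 1)) - 1) :=
    Finset.prod_pos fun i _ => Nat.sub_pos_of_lt (Nat.one_lt_pow (by omega) (by omega))
  have hA : 0 < q ^ ((k + 1) * k) := pow_pos (by omega) _
  have ha : 3 ≤ q ^ (k + 1) := le_trans hq (Nat.le_self_pow (by omega) q)
  have e1 : q ^ ((k + 1) ^ 2) = q ^ ((k + 1) * k) * q ^ (k + 1) := by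
    rw [← pow_add]; congr 1; ring
  have e2 : q ^ (2 * (k + 1)) = (q ^ (k + 1)) ^ 2 := by rw [← pow_mul, mul_comm]
  rw [e1, e2]
  generalize (∏ i ∈ Finset.range k, (q ^ (2 * (i + 1)) - 1)) = P at hP ⊢
  generalize q ^ ((k + 1) * k) = A at hA ⊢
  generalize q ^ (k + 1) = a at ha ⊢
  have h8 : 2 * (a + 1) < a * (a ^ 2 - 1) := by
    have : 8 ≤ a ^ 2 - 1 := by
      have : 9 ≤ a ^ 2 := by nlinarith
      omega
    calc 2 * (a + 1) < a * 8 := by omega
      _ ≤ _ := Nat.mul_le_mul_left a this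
  calc 2 * A * (a + 1) * P = (2 * (a + 1)) * (A * P) := by ring
    _ < (a * (a ^ 2 - 1)) * (A * P) := Nat.mul_lt_mul_of_pos_right h8 (Nat.mul_pos hA hP)
    _ = _ := by ring

/-- Orthogonal and symplectic projective similarity groups have different orders. -/
theorem card_lt [Fintype F] (h2 : (2 : F) ≠ 0) {m : ℕ} (hm : 1 ≤ m) {ι : Type} [Fintype ι] [DecidableEq ι]
    [Nonempty ι] (Q : (ι → F) → F) (G : Matrix ι ι F) (hG : Gᵀ = G) (hQ : ∀ v, 2 * Q v = v ⬝ᵥ (G *ᵥ v))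
    (hcard : Nat.card ↥(Cfsg.isometryGroup F Q) ≤
      2 * Fintype.card F ^ (m * (m - 1)) * (Fintype.card F ^ m + 1) *
        ∏ i ∈ Finset.range (m - 1), (Fintype.card F ^ (2 * (i + 1)) - 1)) :
    Nat.card (Cfsg.projQuot (SimGrp G)) < Nat.card (Cfsg.projQuot (SimGrp (Matrix.J (Fin m) F))) := by
  classical
  haveI : Nonempty (Fin m ⊕ Fin m) := ⟨Sum.inl ⟨0, hm⟩⟩
  set q := Fintype.card F with hq
  have hq1 : 1 < q := Fintype.one_lt_card
  obtain ⟨eJ⟩ := isoGrp_J (F := F) m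
  have hsp : Nat.card ↥(IsoGrp (Matrix.J (Fin m) F)) = q ^ (m ^ 2) * ∏ i ∈ Finset.range m, (q ^ (2 * (i + 1)) - 1) := by
    rw [Nat.card_congr eJ.toEquiv]; exact Cfsg.Agent.S0245.result rfl m
  have hlo : Nat.card Fˣ * Nat.card ↥(IsoGrp (Matrix.J (Fin m) F)) ≤ Nat.card ↥(SimGrp (Matrix.J (Fin m) F)) := by
    rw [← Nat.card_prod]
    let d : Fˣ → GL (Fin m ⊕ Fin m) F := fun c => Matrix.GeneralLinearGroup.mkOfDetNeZero
      (fromBlocks ((c : F) • (1 : Matrix (Fin m) (Fin m) F)) 0 0 1) (by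
        rw [det_fromBlocks_zero₂₁, det_smul, det_one, mul_one, mul_one]
        exact pow_ne_zero _ c.ne_zero)
    have hd : ∀ c, (d c).1ᵀ * Matrix.J (Fin m) F * (d c).1 = (c : F) • Matrix.J (Fin m) F := fun c => by
      show (fromBlocks ((c : F) • (1 : Matrix (Fin m) (Fin m) F)) 0 0 1)ᵀ * _ * fromBlocks _ 0 0 1 = _
      rw [Matrix.J, fromBlocks_transpose, fromBlocks_multiply, fromBlocks_multiply, fromBlocks_smul]
      simp
    refine Nat.card_le_card_of_injective (fun x => (⟨d x.1 * x.2.1, ⟨x.1, ?_⟩⟩ : ↥(SimGrp (Matrix.J (Fin m) F)))) ?_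
    · have hx : x.2.1.1ᵀ * Matrix.J (Fin m) F * x.2.1.1 = Matrix.J (Fin m) F := x.2.2
      calc (d x.1 * x.2.1).1ᵀ * Matrix.J (Fin m) F * (d x.1 * x.2.1).1
          = x.2.1.1ᵀ * ((d x.1).1ᵀ * Matrix.J (Fin m) F * (d x.1).1) * x.2.1.1 := by
            simp only [Units.val_mul, transpose_mul, Matrix.mul_assoc]
        _ = _ := by rw [hd, Matrix.mul_smul, Matrix.smul_mul, hx]
    · rintro ⟨c, x⟩ ⟨c', x'⟩ h
      have h0 : d c * x.1 = d c' * x'.1 := congrArg Subtype.val h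
      have hcc : c = c' := by
        have key : ∀ (c : Fˣ) (x : ↥(IsoGrp (Matrix.J (Fin m) F))),
            (d c * x.1).1ᵀ * Matrix.J (Fin m) F * (d c * x.1).1 = (c : F) • Matrix.J (Fin m) F := fun c x => by
          calc (d c * x.1).1ᵀ * Matrix.J (Fin m) F * (d c * x.1).1
              = x.1.1ᵀ * ((d c).1ᵀ * Matrix.J (Fin m) F * (d c).1) * x.1.1 := by
                simp only [Units.val_mul, transpose_mul, Matrix.mul_assoc]
            _ = _ := by rw [hd, Matrix.mul_smul, Matrix.smul_mul, show x.1.1ᵀ * _ * x.1.1 = _ from x.2]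
        have e1 := key c x
        rw [h0, key c' x', ← sub_eq_zero, ← sub_smul, smul_eq_zero] at e1
        refine Units.ext ((sub_eq_zero.mp (e1.resolve_right fun hz => ?_)).symm)
        exact (Matrix.isUnit_det_J (Fin m) F).ne_zero (by rw [hz, det_zero])
      subst hcc
      rw [mul_left_cancel_iff] at h0
      exact Prod.ext rfl (Subtype.ext h0)
  have hhi := card_simGrp_le G
  rw [card_isoGrp_eq h2 Q G hG hQ] at hhi
  have hq3 : 3 ≤ q := by
    rcases Nat.lt_or_ge q 3 with h | h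
    · exfalso
      have hq2 : q = 2 := by omega
      apply h2
      have : ((Fintype.card F : ℕ) : F) = 0 := FiniteField.cast_card_eq_zero F
      rw [← hq, hq2] at this
      exact_mod_cast this
    · exact h
  have hlt := card_arith hq3 hm
  have h := card_proj G
  have h' := card_proj (Matrix.J (Fin m) F)
  rw [card_scalars] at h h'
  have hu : 0 < Nat.card Fˣ := Nat.card_pos
  refine Nat.lt_of_mul_lt_mul_right (a := Nat.card Fˣ) ?_
  rw [h, h']
  calc Nat.card ↥(SimGrp G) ≤ Nat.card Fˣ * Nat.card ↥(Cfsg.isometryGroup F Q) := hhi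
    _ < Nat.card Fˣ * Nat.card ↥(IsoGrp (Matrix.J (Fin m) F)) :=
        Nat.mul_lt_mul_of_pos_left (lt_of_le_of_lt hcard (hsp ▸ hlt)) hu
    _ ≤ _ := hlo

end CfsgLib.PSLnGraph
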