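import Cfsg.Agent.Lib.PSLnGraph.Basic
import Cfsg.Agent.Lib.PSLnGraph.Models
import Cfsg.Agent.Lib.FiniteForms.Quad

/-!
Classification of involutory graph automorphisms of `PSL_n(q)`.
-/

set_option autoImplicit false
set_option linter.unusedSectionVars false

namespace CfsgLib.PSLnGraph

open Matrix

variable {F : Type*} [Field F]

section aux

variable {ι κ : Type} [Fintype ι] [DecidableEq ι] [Fintype κ] [DecidableEq κ]

theorem exists_GL {n : ℕ} (H : Matrix κ κ F) (hH : H.det ≠ 0) (e : Fintype.card κ = n) :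
    ∃ g : GL (Fin n) F, Rel g.1 H ∧ g.1.det = H.det ∧ (Hᵀ = H → g.1ᵀ = g.1) ∧ (Hᵀ = -H → g.1ᵀ = -g.1) := by
  classical
  let f : Fin n ≃ κ := (Fintype.equivFinOfCardEq e).symm
  have hd : (H.submatrix f f).det = H.det := det_submatrix_equiv_self f H
  refine ⟨Matrix.GeneralLinearGroup.mkOfDetNeZero (H.submatrix f f) (hd ▸ hH), ?_, hd, ?_, ?_⟩
  · refine ⟨(1 : Matrix κ κ F).submatrix f id, (1 : Matrix κ κ F).submatrix id f, 1, ?_, ?_, ?_⟩
    · ext i j; simp [Matrix.mul_apply, Matrix.one_apply]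
    · rw [submatrix_mul_equiv, Matrix.one_mul, submatrix_id_id]
    · rw [Units.val_one, one_smul, transpose_submatrix, transpose_one]
      show (1 : Matrix κ κ F).submatrix id f * H.submatrix f f * (1 : Matrix κ κ F).submatrix f id = H
      rw [submatrix_mul_equiv, submatrix_mul_equiv, Matrix.one_mul, Matrix.mul_one, submatrix_id_id]
  · intro h
    show (H.submatrix f f)ᵀ = _
    rw [transpose_submatrix, h]
    rfl
  · intro h
    show (H.submatrix f f)ᵀ = _
    rw [transpose_submatrix, h]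
    rfl

theorem Rel.transpose_eq {G : Matrix ι ι F} {H : Matrix κ κ F} (h : Rel G H) {ε : F} (hG : Gᵀ = ε • G) :
    Hᵀ = ε • H := by
  obtain ⟨P, P', s, -, -, rfl⟩ := h
  rw [transpose_smul, transpose_mul, transpose_mul, transpose_transpose, hG, Matrix.smul_mul, Matrix.mul_smul,
    ← Matrix.mul_assoc, smul_comm]

theorem Rel.diag_eq {G : Matrix ι ι F} {H : Matrix κ κ F} (h : Rel G H) (hskew : Gᵀ = -G)
    (hdiag : ∀ i, G i i = 0) (k : κ) : H k k = 0 := by
  obtain ⟨P, P', s, -, -, rfl⟩ := h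
  rw [Matrix.smul_apply, gram_apply, alt_quad hskew hdiag, smul_zero]

theorem J_skew (m : ℕ) : (Matrix.J (Fin m) F)ᵀ = -Matrix.J (Fin m) F := Matrix.J_transpose _ _

theorem J_diag {m : ℕ} (i : Fin m ⊕ Fin m) : Matrix.J (Fin m) F i i = 0 := by
  simpa using SympTransvection.dot_J_self (F := F) (Pi.single i 1)

theorem det_J_ne (m : ℕ) : (Matrix.J (Fin m) F).det ≠ 0 := (Matrix.isUnit_det_J _ _).ne_zero

theorem proj_eq {H H' : Subgroup (GL ι F)} (h : H = H') : Nonempty (Cfsg.projQuot H ≃* Cfsg.projQuot H') := by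
  subst h; exact ⟨MulEquiv.refl _⟩

theorem skew_diag (h2 : (2 : F) ≠ 0) {G : Matrix ι ι F} (h : Gᵀ = -G) (i : ι) : G i i = 0 := by
  have := congrFun (congrFun h i) i
  rw [Matrix.transpose_apply, Matrix.neg_apply] at this
  have e : 2 * G i i = 0 := by linear_combination this
  exact (mul_eq_zero.mp e).resolve_left h2

theorem det_gl_ne {n : ℕ} (g : GL (Fin n) F) : g.1.det ≠ 0 :=
  ((Matrix.isUnit_iff_isUnit_det _).mp g.isUnit).ne_zero

end aux

section odd

variable [Finite F] {n : ℕ}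

theorem rel_symm_odd (h2 : (2 : F) ≠ 0) {G H : Matrix (Fin n) (Fin n) F} (hG : Gᵀ = G) (hH : Hᵀ = H)
    (hG0 : G.det ≠ 0) (hH0 : H.det ≠ 0) (hn : Odd n) : Rel G H := by
  set c : Fˣ := Units.mk0 (G.det * H.det) (mul_ne_zero hG0 hH0)
  refine (rel_smul G c).trans (rel_of_congr ?_)
  rw [FiniteForms.congr_iff h2 (by rw [Matrix.IsSymm, transpose_smul, hG]) hH
    (by rw [det_smul]; exact mul_ne_zero (pow_ne_zero _ c.ne_zero) hG0) hH0]
  obtain ⟨k, rfl⟩ := hn
  refine ⟨(G.det * H.det) ^ (k + 1), ?_⟩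
  rw [det_smul, Fintype.card_fin, show (c : F) = G.det * H.det from rfl]
  ring

theorem rel_symm_even (h2 : (2 : F) ≠ 0) {G H : Matrix (Fin n) (Fin n) F} (hG : Gᵀ = G) (hH : Hᵀ = H)
    (hG0 : G.det ≠ 0) (hH0 : H.det ≠ 0) (hn : Even n) : Rel G H ↔ IsSquare (G.det * H.det) := by
  constructor
  · intro h
    obtain ⟨s, p, -, -, e⟩ := h.det_eq
    obtain ⟨k, rfl⟩ := hn
    exact ⟨s ^ k * p * G.det, by rw [e, Fintype.card_fin]; ring⟩
  · exact fun h => rel_of_congr ((FiniteForms.congr_iff h2 hG hH hG0 hH0).mpr h)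

end odd

end CfsgLib.PSLnGraph
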